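import Cfsg.Agent.SmallSimple.OneSixtyEightMax
import Cfsg.Agent.InvChar.FourGroupCount
import Cfsg.Agent.Char.Burnside
import Cfsg.Agent.Transfer.Basic

/-!
Small groups with a self-centralizing four group, and automorphisms of order two fixing `A₄`, `S₄`.
-/

set_option autoImplicit false
set_option linter.unusedSectionVars false
set_option linter.style.haveILetI false
set_option linter.deprecated false

namespace CfsgLib.S3222

open Subgroup
open scoped commutatorElement Pointwise

section Aut168

variable {K : Type*} [Group K] [Finite K] [IsSimpleGroup K]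

/-- A simple group of order 168 has no automorphism whose fixed points have order 24. -/
theorem no_aut_168 (h : Nat.card K = 168) (σ : K ≃* K) (H : Subgroup K) (hH : Nat.card H = 24)
    (hfix : ∀ x, σ x = x ↔ x ∈ H) : False := by
  haveI : Fact (Nat.Prime 7) := ⟨by norm_num⟩
  haveI : Fact (Nat.Prime 3) := ⟨by norm_num⟩
  obtain ⟨P⟩ : Nonempty (Sylow 7 K) := Sylow.nonempty
  have hN : Nat.card (normalizer ((P : Subgroup K) : Set K)) = 21 :=
    Simple168.card_normalizer_seven h P
  set U : Subgroup K := H ⊓ normalizer ((P : Subgroup K) : Set K) with hU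
  have hU3 : Nat.card U ∣ 3 := by
    have h1 := card_dvd_of_le (inf_le_left : U ≤ H)
    have h2 := card_dvd_of_le (inf_le_right : U ≤ normalizer ((P : Subgroup K) : Set K))
    rw [hH] at h1; rw [hN] at h2
    exact (Nat.dvd_gcd h1 h2).trans (by norm_num)
  -- `H` is transitive on the Sylow 7-subgroups
  have hst : (MulAction.stabilizer H P) = U.subgroupOf H := by
    ext x
    rw [MulAction.mem_stabilizer_iff, Subgroup.mem_subgroupOf, hU, mem_inf, Subgroup.smul_def,
      Sylow.smul_eq_iff_mem_normalizer]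
    exact ⟨fun hx => ⟨x.2, hx⟩, And.right⟩
  have horb := MulAction.index_stabilizer H P
  rw [hst] at horb
  have hmul := card_mul_index (U.subgroupOf H)
  rw [Nat.card_congr (subgroupOfEquivOfLe (inf_le_left : U ≤ H)).toEquiv, hH] at hmul
  have horb8 : (MulAction.orbit H P).ncard ≤ 8 := by
    rw [← Simple168.count_seven h]
    exact Set.ncard_le_card _
  have hUc : Nat.card U = 3 := by
    rcases (Nat.dvd_prime Nat.prime_three).1 hU3 with h1 | h1
    · rw [h1, one_mul, horb] at hmul; omega
    · exact h1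
  have horbit : MulAction.orbit H P = Set.univ := by
    refine Set.eq_of_subset_of_ncard_le (Set.subset_univ _) ?_
    rw [Set.ncard_univ, Simple168.count_seven h]
    rw [hUc, horb] at hmul; omega
  have htrans : ∀ Q : Sylow 7 K, ∃ g ∈ H, g • P = Q := fun Q => by
    obtain ⟨g, hg⟩ : Q ∈ MulAction.orbit H P := horbit ▸ Set.mem_univ _
    exact ⟨g, g.2, hg⟩
  obtain ⟨⟨u, hu⟩, hu3⟩ := exists_prime_orderOf_dvd_card' (G := U) 3 (by rw [hUc])
  rw [Subgroup.orderOf_mk] at hu3
  have hUz : U = zpowers u := (eq_of_le_of_card_ge (zpowers_le.2 hu)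
    (by rw [hUc, Nat.card_zpowers, hu3])).symm
  obtain ⟨uH', uN'⟩ := hu
  have uH : u ∈ H := uH'
  have uN : u ∈ normalizer (P : Set K) := uN'
  have hσu : σ u = u := (hfix u).2 uH
  obtain ⟨x, hxP, hx7⟩ : ∃ x ∈ (P : Subgroup K), orderOf x = 7 := by
    obtain ⟨x, hx⟩ := exists_prime_orderOf_dvd_card' (G := (P : Subgroup K)) 7
      (by rw [Simple168.card_seven h])
    exact ⟨x, x.2, by rw [Subgroup.orderOf_coe, hx]⟩
  have hPz : (P : Subgroup K) = zpowers x := (eq_of_le_of_card_ge (zpowers_le.2 hxP)
    (by rw [Simple168.card_seven h, Nat.card_zpowers, hx7])).symm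
  have hsm : ∀ (k : K) (Q : Sylow 7 K), (σ : MulAut K) • (k • Q) = σ k • ((σ : MulAut K) • Q) := by
    intro k Q
    rw [Sylow.smul_def, Sylow.smul_def, smul_smul, smul_smul]
    congr 1
    ext y
    simp
  obtain ⟨g, hgH, hg⟩ := htrans ((σ : MulAut K) • P)
  have hgmem : ∀ y, y ∈ (P : Subgroup K) → g⁻¹ * σ y * g ∈ (P : Subgroup K) := by
    intro y hy
    have h1 : σ y ∈ (((σ : MulAut K) • P : Sylow 7 K) : Subgroup K) :=
      Subgroup.smul_mem_pointwise_smul y (σ : MulAut K) _ hy
    rw [← hg, Sylow.coe_subgroup_smul, Subgroup.mem_pointwise_smul_iff_inv_smul_mem] at h1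
    simpa using h1
  by_cases hgU : g ∈ U
  · -- every Sylow 7-subgroup is fixed, hence the automorphism is trivial
    have hP : (σ : MulAut K) • P = P := by
      rw [← hg]; exact Sylow.smul_eq_iff_mem_normalizer.2 hgU.2
    have hall : ∀ Q : Sylow 7 K, (σ : MulAut K) • Q = Q := by
      intro Q
      obtain ⟨k, hk, rfl⟩ := htrans Q
      rw [hsm, hP, (hfix k).2 hk]
    have hker : ∀ y : K, y⁻¹ * σ y ∈ (MulAction.toPermHom K (Sylow 7 K)).ker := by
      intro y
      rw [MonoidHom.mem_ker]
      refine Equiv.ext fun Q => ?_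
      show (y⁻¹ * σ y) • Q = Q
      have := hsm y Q
      rw [hall, hall] at this
      rw [mul_smul, ← this, inv_smul_smul]
    have hid : ∀ y : K, σ y = y := by
      rcases (inferInstance : (MulAction.toPermHom K (Sylow 7 K)).ker.Normal).eq_bot_or_eq_top
        with e | e
      · intro y
        have := hker y
        rw [e, mem_bot, inv_mul_eq_one] at this
        exact this.symm
      · exfalso
        have htop : normalizer (P : Set K) = ⊤ := top_le_iff.1 fun y _ => by
          rw [← Sylow.smul_eq_iff_mem_normalizer]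
          have : y ∈ (MulAction.toPermHom K (Sylow 7 K)).ker := e ▸ mem_top y
          exact congrArg (fun q : Equiv.Perm (Sylow 7 K) => q P) this
        have hN' : Nat.card (normalizer (P : Set K)) = 21 := hN
        rw [htop, card_top, h] at hN'
        omega
    have hle : (⊤ : Subgroup K) ≤ H := fun y _ => (hfix y).1 (hid y)
    rw [top_le_iff.1 hle, card_top, h] at hH
    omega
  · -- `g` inverts `u`, and both sides give `u² ∈ C(P)`
    have huP : ∀ z : K, z ∈ (P : Subgroup K) → u * z * u⁻¹ ∈ (P : Subgroup K) := fun z hz =>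
      (mem_normalizer_iff.1 uN z).1 hz
    obtain ⟨k, hk⟩ := mem_zpowers_iff.1 (hPz ▸ huP x hxP)
    obtain ⟨m, hm⟩ := mem_zpowers_iff.1 (hPz ▸ hgmem x hxP)
    set x' := g⁻¹ * σ x * g with hx'
    have e1 : u * x' * u⁻¹ = x' ^ k := by
      rw [← hm, ← conj_zpow, ← hk, ← zpow_mul, ← zpow_mul, mul_comm]
    have hgu : g⁻¹ * u * g ∈ U := by
      refine ⟨H.mul_mem (H.mul_mem (H.inv_mem hgH) uH) hgH, ?_⟩
      show g⁻¹ * u * g ∈ normalizer (P : Set K)
      rw [← Sylow.smul_eq_iff_mem_normalizer, mul_smul, mul_smul, inv_smul_eq_iff, hg]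
      have := hsm u P
      rw [hσu, Sylow.smul_eq_iff_mem_normalizer.2 uN] at this
      exact this.symm
    have hinv : g⁻¹ * u * g = u⁻¹ := by
      rw [hUz] at hgu
      obtain ⟨i, hi⟩ := mem_zpowers_iff.1 hgu
      have hu3' : u ^ (3 : ℤ) = 1 := by
        rw [show (3 : ℤ) = ((3 : ℕ) : ℤ) by rfl, zpow_natCast, ← hu3, pow_orderOf_eq_one]
      have hmod : u ^ i = u ^ (i % 3) := by
        conv_lhs => rw [← Int.emod_add_mul_ediv i 3, zpow_add, zpow_mul, hu3', one_zpow, mul_one]
      rw [hmod] at hi
      have h0 : 0 ≤ i % 3 := Int.emod_nonneg _ (by norm_num)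
      have h3 : i % 3 < 3 := Int.emod_lt_of_pos _ (by norm_num)
      rw [← hi]
      obtain e | e | e : i % 3 = 0 ∨ i % 3 = 1 ∨ i % 3 = 2 := by omega
      · exfalso
        rw [e, zpow_zero] at hi
        have h1 : u = 1 := by
          calc u = g * (g⁻¹ * u * g) * g⁻¹ := by group
            _ = 1 := by rw [← hi]; group
        rw [h1, orderOf_one] at hu3
        omega
      · exfalso
        rw [e, zpow_one] at hi
        apply hgU
        have : g ∈ centralizer ({u} : Set K) := mem_centralizer_singleton_iff.2 (by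
          calc g * u = g * (g⁻¹ * u * g) := by rw [← hi]
            _ = u * g := by group)
        rwa [Simple168.centralizer_three h hu3, ← hUz] at this
      · rw [e, eq_inv_iff_mul_eq_one, ← zpow_add_one]; exact hu3'
    have e2 : u⁻¹ * x' * u = x' ^ k := by
      have hy : u * σ x * u⁻¹ = σ x ^ k := by
        rw [← map_zpow, hk, map_mul, map_mul, map_inv, hσu]
      calc u⁻¹ * x' * u = (g⁻¹ * u * g) * x' * (g⁻¹ * u * g)⁻¹ := by rw [hinv, inv_inv]
        _ = g⁻¹ * (u * σ x * u⁻¹) * g := by rw [hx']; group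
        _ = g⁻¹ * σ x ^ k * g⁻¹⁻¹ := by rw [hy, inv_inv]
        _ = x' ^ k := by rw [← conj_zpow, hx', inv_inv]
    have hc : x' ∈ centralizer ({u ^ 2} : Set K) := mem_centralizer_singleton_iff.2 (by
      have h4 : u * x' * u⁻¹ = u⁻¹ * x' * u := e1.trans e2.symm
      rw [sq]
      calc x' * (u * u) = u * (u⁻¹ * x' * u) * u := by simp [mul_assoc]
        _ = u * (u * x' * u⁻¹) * u := by rw [h4]
        _ = u * u * x' := by simp [mul_assoc])
    have hu2 : orderOf (u ^ 2) = 3 := by rw [orderOf_pow, hu3]; norm_num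
    rw [Simple168.centralizer_three h hu2] at hc
    have h7 : orderOf x' = 7 := by
      rw [hx', show g⁻¹ * σ x * g = MulAut.conj g⁻¹ (σ x) by simp, MulEquiv.orderOf_eq,
        MulEquiv.orderOf_eq, hx7]
    have hd := orderOf_dvd_natCard (zpowers (u ^ 2)) hc
    rw [h7, Nat.card_zpowers, hu2] at hd
    norm_num at hd

end Aut168

section Four

variable {L : Type*} [Group L] [Finite L]

/-- The hypotheses on a self-centralizing Sylow four group with fused involutions. -/
structure FourHyp (V : Subgroup L) (v : L) : Prop where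
  card_four : Nat.card V = 4
  sq_one : ∀ w ∈ V, w * w = 1
  mem : v ∈ V
  ne_one : v ≠ 1
  centralizer_eq : centralizer ({v} : Set L) = V
  fusion : ∀ w ∈ V, w ≠ 1 → IsConj v w
  odd_index : Odd V.index

variable {V : Subgroup L} {v : L}

theorem FourHyp.comm (F : FourHyp V v) {a b : L} (ha : a ∈ V) (hb : b ∈ V) : a * b = b * a := by
  calc a * b = a * 1 * b := by group
    _ = a * ((a * b) * (a * b)) * b := by rw [F.sq_one _ (mul_mem ha hb)]
    _ = (a * a) * b * a * (b * b) := by group
    _ = b * a := by rw [F.sq_one a ha, F.sq_one b hb]; group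

theorem FourHyp.centralizer_of (F : FourHyp V v) {w : L} (hw : w ∈ V) (hw1 : w ≠ 1) :
    centralizer ({w} : Set L) = V := by
  obtain ⟨g, hg⟩ := isConj_iff.1 (F.fusion w hw hw1)
  have hle : V ≤ centralizer ({w} : Set L) := fun x hx =>
    mem_centralizer_singleton_iff.2 (F.comm hx hw)
  refine (eq_of_le_of_card_ge hle ?_).symm
  have hmap : centralizer ({w} : Set L) ≤ (centralizer ({v} : Set L)).map (MulAut.conj g).toMonoidHom := by
    intro x hx
    refine ⟨g⁻¹ * x * g, mem_centralizer_singleton_iff.2 ?_, by simp [mul_assoc]⟩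
    have := mem_centralizer_singleton_iff.1 hx
    rw [← hg] at this
    calc g⁻¹ * x * g * v = g⁻¹ * (x * (g * v * g⁻¹)) * g := by group
      _ = g⁻¹ * (g * v * g⁻¹ * x) * g := by rw [this]
      _ = _ := by group
  refine (Subgroup.card_le_of_le hmap).trans (le_of_eq ?_)
  rw [card_map_of_injective (MulAut.conj g).injective, F.centralizer_eq]

/-- The order of such a group is twelve, or it is perfect of order sixty. -/
theorem FourHyp.card_cases (F : FourHyp V v) {c : L} (hc : c ∈ normalizer (V : Set L)) (hcV : c ∉ V) :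
    Nat.card L = 12 ∨ (Nat.card L = 60 ∧ commutator L = ⊤) := by
  haveI : Fact (Nat.Prime 2) := ⟨Nat.prime_two⟩
  haveI hcomm : IsMulCommutative V := ⟨⟨fun a b => Subtype.ext (F.comm a.2 b.2)⟩⟩
  by_cases hp : commutator L = ⊤
  · refine Or.inr ⟨?_, hp⟩
    haveI := Fintype.ofFinite L
    have F' : InvChar.FourData V ⊥ V v :=
      { centralizer_eq := F.centralizer_eq.symm
        card_four := F.card_four
        sq_one := F.sq_one
        mem_four := F.mem
        ne_one := F.ne_one
        commutes := fun a ha w hw => F.comm ha hw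
        complement_le := bot_le
        four_le := le_rfl
        odd_complement := by simp
        decomp := fun a ha => ⟨a, ha, 1, one_mem _, (mul_one a).symm⟩
        fusion := F.fusion
        odd_index := F.odd_index }
    have hidx := F'.index_le hp
    have hmul := card_mul_index V
    rw [F.card_four] at hmul
    obtain ⟨k, hk⟩ := F.odd_index
    by_contra hne
    have hsol : Group.IsSolvable L := by
      obtain ⟨q, b, hq, hb⟩ : ∃ q b, q.Prime ∧ V.index = q ^ b := by
        have hk7 : k < 7 := by omega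
        interval_cases k
        · exact ⟨3, 0, by norm_num, by omega⟩
        · exact ⟨3, 1, by norm_num, by omega⟩
        · exact ⟨5, 1, by norm_num, by omega⟩
        · exact ⟨7, 1, by norm_num, by omega⟩
        · exact ⟨3, 2, by norm_num, by omega⟩
        · exact ⟨11, 1, by norm_num, by omega⟩
        · exact ⟨13, 1, by norm_num, by omega⟩
      exact Char.isSolvable_of_card_eq 2 q 2 b Nat.prime_two hq (by rw [← hmul, hb]; norm_num)
    haveI : Nontrivial L := ⟨⟨v, 1, F.ne_one⟩⟩
    exact (hsol.commutator_lt_top_of_nontrivial L).ne hp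
  refine Or.inl ?_
  set N := normalizer (V : Set L)
  have hVN : V ≤ N := le_normalizer
  -- `V` lies in the derived subgroup
  have hcv : c * v * c⁻¹ ≠ v := fun h => hcV (F.centralizer_eq ▸
    mem_centralizer_singleton_iff.2 (mul_inv_eq_iff_eq_mul.1 h))
  have hcmem : c * v * c⁻¹ ∈ V := (mem_normalizer_iff.1 hc v).1 F.mem
  have hVD : V ≤ commutator L := by
    intro w hw
    rcases eq_or_ne w 1 with rfl | hw1
    · exact one_mem _
    set w₀ := c * v * c⁻¹ * v
    have hw₀ : w₀ ∈ V := mul_mem hcmem F.mem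
    have hw₀1 : w₀ ≠ 1 := fun h => hcv (by
      rw [mul_eq_one_iff_eq_inv.1 h, inv_eq_of_mul_eq_one_right (F.sq_one v F.mem)])
    have hD : w₀ ∈ commutator L := by
      have : w₀ = ⁅c, v⁆ := by
        rw [commutatorElement_def, inv_eq_of_mul_eq_one_right (F.sq_one v F.mem)]
      rw [this, _root_.commutator_def]
      exact commutator_mem_commutator (mem_top _) (mem_top _)
    obtain ⟨a, ha⟩ := isConj_iff.1 (((F.fusion w₀ hw₀ hw₀1).symm).trans (F.fusion w hw hw1))
    exact ha ▸ (inferInstance : (commutator L).Normal).conj_mem _ hD a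
  -- the normalizer has order twelve
  have hNcard : Nat.card N = 12 := by
    let X := {w : V // w ≠ 1}
    let act : N →* Equiv.Perm V :=
      { toFun := fun n =>
          { toFun := fun w => ⟨(n : L) * w * (n : L)⁻¹, (mem_normalizer_iff.1 n.2 _).1 w.2⟩
            invFun := fun w => ⟨(n : L)⁻¹ * w * (n : L), by
              simpa using (mem_normalizer_iff.1 (inv_mem n.2) _).1 w.2⟩
            left_inv := fun w => Subtype.ext (by simp [mul_assoc])
            right_inv := fun w => Subtype.ext (by simp [mul_assoc]) }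
        map_one' := Equiv.ext fun w => Subtype.ext (by simp)
        map_mul' := fun a b => Equiv.ext fun w => Subtype.ext (by simp [mul_assoc]) }
    have hker : act.ker = V.subgroupOf N := by
      ext n
      rw [MonoidHom.mem_ker, mem_subgroupOf]
      constructor
      · intro hn
        rw [← F.centralizer_eq, mem_centralizer_singleton_iff]
        exact mul_inv_eq_iff_eq_mul.1 (congrArg Subtype.val (congrArg (· ⟨v, F.mem⟩) hn))
      · intro hn
        refine Equiv.ext fun w => Subtype.ext ?_
        show (n : L) * w * (n : L)⁻¹ = w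
        rw [mul_inv_eq_iff_eq_mul]
        exact F.comm hn w.2
    have hodd : Odd (V.relIndex N) := Odd.of_dvd_nat F.odd_index (relIndex_dvd_index_of_le hVN)
    have hdvd : V.relIndex N ∣ 24 := by
      show (V.subgroupOf N).index ∣ 24
      rw [← hker, index_ker]
      have := card_subgroup_dvd_card act.range
      rwa [Nat.card_perm, F.card_four] at this
    have hne1 : V.relIndex N ≠ 1 := fun h => hcV (relIndex_eq_one.1 h hc)
    have h3 : V.relIndex N ∣ 3 :=
      (Nat.Coprime.dvd_of_dvd_mul_left (hodd.coprime_two_right.pow_right 3)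
        (show V.relIndex N ∣ 2 ^ 3 * 3 by norm_num; exact hdvd))
    have := (Nat.dvd_prime Nat.prime_three).1 h3
    have hmul := card_mul_index (V.subgroupOf N)
    rw [Nat.card_congr (subgroupOfEquivOfLe hVN).toEquiv, F.card_four] at hmul
    rw [show (V.subgroupOf N).index = V.relIndex N from rfl] at hmul
    omega
  set D := commutator L
  set T := V.subgroupOf D
  have hTp : IsPGroup 2 T := IsPGroup.of_card (n := 2)
    (by rw [Nat.card_congr (subgroupOfEquivOfLe hVD).toEquiv, F.card_four]; norm_num)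
  have hTi : ¬ 2 ∣ T.index := fun h =>
    (Nat.not_even_iff_odd.2 F.odd_index) (even_iff_two_dvd.2 (h.trans (relIndex_dvd_index_of_le hVD)))
  let P : Sylow 2 D := hTp.toSylow hTi
  have hPT : (P : Subgroup D) = T := rfl
  have hfr : normalizer (V : Set L) ⊔ D = ⊤ := by
    have := Sylow.normalizer_sup_eq_top (N := D) P
    rwa [hPT, map_subgroupOf_eq_of_le hVD] at this
  -- the derived subgroup has index three
  have hidx3 : D.relIndex N = 3 ∧ D.index = 3 := by
    have h1 : D.index = D.relIndex N := by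
      rw [← Subgroup.relIndex_sup_right (H := N) (K := D), hfr, relIndex_top_right]
    have h2 : D.relIndex N ∣ V.relIndex N := relIndex_dvd_of_le_left N hVD
    have hmul := card_mul_index (V.subgroupOf N)
    rw [Nat.card_congr (subgroupOfEquivOfLe hVN).toEquiv, F.card_four, hNcard] at hmul
    rw [show V.relIndex N = 3 by show (V.subgroupOf N).index = 3; omega] at h2
    rcases (Nat.dvd_prime Nat.prime_three).1 h2 with h | h
    · exact absurd (index_eq_one.1 (h1.trans h)) hp
    · exact ⟨h, h1.trans h⟩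
  have hND : ∀ n ∈ N, n ∈ D → n ∈ V := by
    intro n hn hnD
    have hmul := card_mul_index (D.subgroupOf N)
    rw [show (D.subgroupOf N).index = 3 from hidx3.1, hNcard] at hmul
    have heq : V.subgroupOf N = D.subgroupOf N := eq_of_le_of_card_ge
      (fun x hx => hVD hx)
      (by rw [Nat.card_congr (subgroupOfEquivOfLe hVN).toEquiv, F.card_four]; omega)
    exact (heq.ge (show (⟨n, hn⟩ : N) ∈ D.subgroupOf N from hnD))
  have hPcent : normalizer ((P : Subgroup D) : Set D) ≤ centralizer ((P : Subgroup D) : Set D) := by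
    intro n hn
    rw [hPT] at hn ⊢
    have hnN : (n : L) ∈ N := mem_normalizer_iff.2 fun y => by
      constructor
      · intro hy
        exact (mem_normalizer_iff.1 hn ⟨y, hVD hy⟩).1 hy
      · intro hy
        have := (mem_normalizer_iff.1 (inv_mem hn)
          ⟨(n : L) * y * (n : L)⁻¹, hVD hy⟩).1 hy
        simpa [T, mem_subgroupOf, mul_assoc] using this
    exact mem_centralizer_iff.2 fun a ha => Subtype.ext (F.comm ha (hND n hnN n.2))
  obtain ⟨P', W, hWn, hW⟩ := TransferBasic.hasNormalPComplement_of_le_centralizer P hPcent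
  have hP'4 : Nat.card (P' : Subgroup D) = 4 := by
    rw [P'.card_eq_multiplicity, ← P.card_eq_multiplicity, hPT,
      Nat.card_congr (subgroupOfEquivOfLe hVD).toEquiv, F.card_four]
  have hWodd : (Nat.card W).Coprime 2 := by
    have h1 : W.index = 4 := hW.symm.index_eq_card.trans hP'4
    have h2 := card_mul_index W
    have h3 : Nat.card D * 3 = Nat.card L := hidx3.2 ▸ card_mul_index D
    have h4 := card_mul_index V
    rw [F.card_four] at h4
    rw [h1] at h2
    rw [Nat.coprime_two_right]
    obtain ⟨k, hk⟩ := F.odd_index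
    rw [Nat.odd_iff]
    omega
  set W' := W.map D.subtype
  have hWchar : ∀ g : L, ∀ x ∈ W', g * x * g⁻¹ ∈ W' := by
    rintro g _ ⟨x, hx, rfl⟩
    refine ⟨⟨g * x * g⁻¹, (inferInstance : D.Normal).conj_mem _ x.2 g⟩, ?_, rfl⟩
    set y : D := ⟨g * x * g⁻¹, (inferInstance : D.Normal).conj_mem _ x.2 g⟩
    rw [SetLike.mem_coe, ← QuotientGroup.eq_one_iff (N := W), ← orderOf_eq_one_iff]
    have ho : orderOf y = orderOf x := by
      rw [← Subgroup.orderOf_coe, ← Subgroup.orderOf_coe x]
      exact (MulAut.conj g).orderOf_eq (x : L)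
    have h1 : orderOf (y : D ⧸ W) ∣ Nat.card W :=
      ((orderOf_map_dvd (QuotientGroup.mk' W) y).trans ho.dvd).trans (orderOf_dvd_natCard W hx)
    have h2 : orderOf (y : D ⧸ W) ∣ 4 := by
      rw [← hP'4, ← hW.symm.index_eq_card]
      exact orderOf_dvd_natCard _
    exact Nat.eq_one_of_dvd_coprimes (hWodd.pow_right 2) h1 (by simpa using h2)
  -- each involution of `V` inverts the odd subgroup
  have hinv : ∀ w ∈ V, w ≠ 1 → ∀ x ∈ W', w * x * w⁻¹ = x⁻¹ := by
    intro w hw hw1
    have hwi : w⁻¹ = w := inv_eq_of_mul_eq_one_right (F.sq_one w hw)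
    have hfpf : ∀ a ∈ W', w * a * w⁻¹ = a → a = 1 := by
      intro a ha hfa
      have h1 : a ∈ V := F.centralizer_of hw hw1 ▸
        mem_centralizer_singleton_iff.2 (mul_inv_eq_iff_eq_mul.1 hfa).symm
      have h2 := orderOf_dvd_natCard W' ha
      rw [show Nat.card W' = Nat.card W from card_map_of_injective D.subtype_injective] at h2
      exact orderOf_eq_one_iff.1 (Nat.eq_one_of_dvd_coprimes hWodd h2
        (orderOf_dvd_of_pow_eq_one ((sq a).trans (F.sq_one a h1))))
    intro x hx
    let f : W' → W' := fun a => ⟨(a : L)⁻¹ * (w * a * w⁻¹), mul_mem (inv_mem a.2) (hWchar w a a.2)⟩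
    have hinj : Function.Injective f := by
      intro a b hab
      have h := congrArg Subtype.val hab
      simp only [f] at h
      have h' : (b : L) * (a : L)⁻¹ = w * ((b : L) * (a : L)⁻¹) * w⁻¹ := by
        calc (b : L) * (a : L)⁻¹
            = b * ((a : L)⁻¹ * (w * a * w⁻¹)) * (w * (a : L)⁻¹ * w⁻¹) := by group
          _ = _ := by rw [h]; group
      exact Subtype.ext (mul_inv_eq_one.1 (hfpf _ (mul_mem b.2 (inv_mem a.2)) h'.symm)).symm
    obtain ⟨a, ha⟩ := (Finite.injective_iff_surjective.1 hinj) ⟨x, hx⟩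
    have ha' : (a : L)⁻¹ * (w * a * w⁻¹) = x := congrArg Subtype.val ha
    rw [← ha', hwi]
    calc w * ((a : L)⁻¹ * (w * a * w)) * w
        = w * (a : L)⁻¹ * w * a * (w * w) := by group
      _ = w * (a : L)⁻¹ * w⁻¹ * a := by rw [F.sq_one w hw, hwi]; group
      _ = ((a : L)⁻¹ * (w * a * w⁻¹))⁻¹ := by group
      _ = ((a : L)⁻¹ * (w * a * w))⁻¹ := by rw [hwi]
  have hW1 : W = ⊥ := by
    refine (eq_bot_iff_forall _).2 fun x hx => Subtype.ext ?_
    have hx' : (x : L) ∈ W' := ⟨x, hx, rfl⟩
    have hw2 : c * v * c⁻¹ * v ≠ 1 := fun h => hcv (by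
      rw [mul_eq_one_iff_eq_inv.1 h, inv_eq_of_mul_eq_one_right (F.sq_one v F.mem)])
    have h1 := hinv v F.mem F.ne_one x hx'
    have h2 := hinv (c * v * c⁻¹) hcmem (fun h => F.ne_one (conj_eq_one_iff.1 h)) _
      (inv_mem hx')
    have h3 := hinv _ (mul_mem hcmem F.mem) hw2 x hx'
    have h4 : c * v * c⁻¹ * v * x * (c * v * c⁻¹ * v)⁻¹ = x := by
      calc _ = c * v * c⁻¹ * (v * x * v⁻¹) * (c * v * c⁻¹)⁻¹ := by group
        _ = x := by rw [h1, h2, inv_inv]
    have h5 : (x : L) * x = 1 := mul_eq_one_iff_eq_inv.2 (h4.symm.trans h3)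
    have h6 := orderOf_dvd_natCard W' hx'
    rw [show Nat.card W' = Nat.card W from card_map_of_injective D.subtype_injective] at h6
    exact orderOf_eq_one_iff.1 (Nat.eq_one_of_dvd_coprimes hWodd h6
      (orderOf_dvd_of_pow_eq_one ((sq _).trans h5)))
  have h1 := hW.card_mul
  rw [hW1, card_bot, hP'4] at h1
  have h2 := card_mul_index D
  rw [hidx3.2, ← h1] at h2
  omega

/-- A perfect group of order sixty has no involutive automorphism with fixed points of order 12. -/
theorem no_aut_60 (h60 : Nat.card L = 60) (hperf : commutator L = ⊤) (F : FourHyp V v)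
    (σ : L ≃* L) (hσ : ∀ x, σ (σ x) = x) (A : Subgroup L) (hA : Nat.card A = 12)
    (hVA : V ≤ A) (hVn : A ≤ normalizer (V : Set L)) (hfix : ∀ x, σ x = x ↔ x ∈ A) : False := by
  haveI : Fact (Nat.Prime 3) := ⟨Nat.prime_three⟩
  haveI : Fact (Nat.Prime 2) := ⟨Nat.prime_two⟩
  haveI : Nontrivial L := ⟨⟨v, 1, F.ne_one⟩⟩
  obtain ⟨⟨u, huA⟩, hu3⟩ := exists_prime_orderOf_dvd_card' (G := A) 3 (by rw [hA]; norm_num)
  rw [Subgroup.orderOf_mk] at hu3
  set U := zpowers u
  have hU : Nat.card U = 3 := by rw [Nat.card_zpowers, hu3]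
  have hUp : IsPGroup 3 U := IsPGroup.of_card (n := 1) (by rw [hU]; norm_num)
  have hUi : ¬ 3 ∣ U.index := by
    have := card_mul_index U
    rw [hU, h60] at this
    omega
  let P : Sylow 3 L := hUp.toSylow hUi
  -- some element inverts `u`
  obtain ⟨w, hw⟩ : ∃ w : L, w * u * w⁻¹ = u⁻¹ := by
    by_contra hno
    push Not at hno
    have hc : normalizer ((P : Subgroup L) : Set L) ≤ centralizer ((P : Subgroup L) : Set L) := by
      intro n hn
      have hn' : n * u * n⁻¹ ∈ U := (mem_normalizer_iff.1 hn u).1 (mem_zpowers u)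
      obtain ⟨i, hi⟩ := mem_zpowers_iff.1 hn'
      refine mem_centralizer_iff.2 fun y hy => ?_
      obtain ⟨j, rfl⟩ := mem_zpowers_iff.1 (show y ∈ U from hy)
      suffices hh : Commute n u from ((hh.zpow_right j).eq).symm
      have hu3' : u ^ (3 : ℤ) = 1 := by
        rw [show (3 : ℤ) = ((3 : ℕ) : ℤ) by rfl, zpow_natCast, ← hu3, pow_orderOf_eq_one]
      have hmod : u ^ i = u ^ (i % 3) := by
        conv_lhs => rw [← Int.emod_add_mul_ediv i 3, zpow_add, zpow_mul, hu3', one_zpow, mul_one]
      rw [hmod] at hi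
      have h0 : 0 ≤ i % 3 := Int.emod_nonneg _ (by norm_num)
      have h3 : i % 3 < 3 := Int.emod_lt_of_pos _ (by norm_num)
      obtain e | e | e : i % 3 = 0 ∨ i % 3 = 1 ∨ i % 3 = 2 := by omega
      · exfalso
        rw [e, zpow_zero] at hi
        have : u = 1 := conj_eq_one_iff.1 hi.symm
        rw [this, orderOf_one] at hu3
        omega
      · rw [e, zpow_one] at hi
        exact mul_inv_eq_iff_eq_mul.1 hi.symm
      · exfalso
        apply hno n
        rw [← hi, e, eq_inv_iff_mul_eq_one, ← zpow_add_one]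
        exact hu3'
    obtain ⟨P', W, hWn, hW⟩ := TransferBasic.hasNormalPComplement_of_le_centralizer P hc
    have h3 : Nat.card (P' : Subgroup L) = 3 := by
      rw [P'.card_eq_multiplicity, ← P.card_eq_multiplicity]
      exact hU
    have hWi : W.index = 3 := hW.symm.index_eq_card.trans h3
    haveI : IsCyclic (L ⧸ W) := isCyclic_of_prime_card (p := 3) hWi
    have hle : commutator L ≤ W := by
      rw [commutator_eq_closure, closure_le]
      rintro _ ⟨a, b, rfl⟩
      rw [SetLike.mem_coe, ← QuotientGroup.eq_one_iff (N := W)]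
      letI := IsCyclic.commGroup (α := L ⧸ W)
      show (QuotientGroup.mk' W) ⁅a, b⁆ = 1
      rw [map_commutatorElement]
      exact commutatorElement_eq_one_iff_commute.2 (Commute.all _ _)
    rw [hperf, top_le_iff] at hle
    rw [hle, index_top] at hWi
    omega
  -- the centralizer of `u` has odd order
  have hodd : Odd (Nat.card (centralizer ({u} : Set L))) := by
    by_contra he
    rw [Nat.not_odd_iff_even] at he
    obtain ⟨⟨i, hi⟩, hi2⟩ := exists_prime_orderOf_dvd_card' (G := centralizer ({u} : Set L)) 2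
      he.two_dvd
    rw [Subgroup.orderOf_mk] at hi2
    have hp : IsPGroup 2 (zpowers i) := IsPGroup.of_card (n := 1)
      (by rw [Nat.card_zpowers, hi2]; norm_num)
    obtain ⟨S, hS⟩ := hp.exists_le_sylow
    have hVp : IsPGroup 2 V := IsPGroup.of_card (n := 2) (by rw [F.card_four]; norm_num)
    let T : Sylow 2 L := hVp.toSylow fun h =>
      (Nat.not_even_iff_odd.2 F.odd_index) (even_iff_two_dvd.2 h)
    obtain ⟨g, hg⟩ := MulAction.exists_smul_eq L S T
    have hmem : g * i * g⁻¹ ∈ V := by
      have : g * i * g⁻¹ ∈ ((g • S : Sylow 2 L) : Subgroup L) := by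
        rw [Sylow.coe_subgroup_smul]
        exact ⟨i, hS (mem_zpowers i), rfl⟩
      rw [hg] at this
      exact this
    have hne : g * i * g⁻¹ ≠ 1 := fun h => by
      rw [conj_eq_one_iff.1 h, orderOf_one] at hi2; omega
    have huV : g * u * g⁻¹ ∈ V := F.centralizer_of hmem hne ▸ mem_centralizer_singleton_iff.2 (by
      rw [conj_mul, conj_mul, mem_centralizer_singleton_iff.1 hi])
    have h2 := orderOf_dvd_of_pow_eq_one ((sq _).trans (F.sq_one _ huV))
    rw [show g * u * g⁻¹ = MulAut.conj g u by rfl, MulEquiv.orderOf_eq, hu3] at h2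
    norm_num at h2
  -- the automorphism fixes an inverting element
  set C := centralizer ({u} : Set L)
  have hσu : σ u = u := (hfix u).2 huA
  let X := {x : L // x * u * x⁻¹ = u⁻¹}
  have hXcard : Nat.card X = Nat.card C := by
    refine Nat.card_congr
      { toFun := fun x => ⟨w⁻¹ * x.1, mem_centralizer_singleton_iff.2 (by
          calc w⁻¹ * x.1 * u = w⁻¹ * (x.1 * u * x.1⁻¹) * x.1 := by group
            _ = w⁻¹ * (w * u * w⁻¹) * x.1 := by rw [x.2, hw]
            _ = _ := by group)⟩
        invFun := fun y => ⟨w * y.1, by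
          calc w * y.1 * u * (w * y.1)⁻¹ = w * (y.1 * u) * y.1⁻¹ * w⁻¹ := by group
            _ = w * u * w⁻¹ := by rw [mem_centralizer_singleton_iff.1 y.2]; group
            _ = u⁻¹ := hw⟩
        left_inv := fun x => Subtype.ext (by simp)
        right_inv := fun y => Subtype.ext (by simp) }
  have hX : ∀ x : X, σ x.1 * u * (σ x.1)⁻¹ = u⁻¹ := fun x => by
    have := congrArg σ x.2
    rwa [map_mul, map_mul, map_inv, map_inv, hσu] at this
  let f : Equiv.Perm X :=
    { toFun := fun x => ⟨σ x.1, hX x⟩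
      invFun := fun x => ⟨σ x.1, hX x⟩
      left_inv := fun x => Subtype.ext (hσ _)
      right_inv := fun x => Subtype.ext (hσ _) }
  classical
  haveI : Fintype X := Fintype.ofFinite X
  obtain ⟨x, hx⟩ : ∃ x : X, f x = x := by
    refine Equiv.Perm.exists_fixed_point_of_prime (p := 2) (n := 1) ?_ (Equiv.ext fun x => ?_)
    · rw [← Nat.card_eq_fintype_card, hXcard]
      intro hd
      exact (Nat.not_even_iff_odd.2 hodd) (even_iff_two_dvd.2 hd)
    · rw [pow_one, sq]; exact Subtype.ext (hσ _)
  have hxA : (x : L) ∈ A := (hfix _).1 (congrArg Subtype.val hx)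
  -- modulo `V` the group `A` is abelian
  haveI : (V.subgroupOf A).Normal := normal_subgroupOf_of_le_normalizer hVn
  have hq : Nat.card (A ⧸ V.subgroupOf A) = 3 := by
    have := card_mul_index (V.subgroupOf A)
    rw [Nat.card_congr (subgroupOfEquivOfLe hVA).toEquiv, F.card_four, hA] at this
    show (V.subgroupOf A).index = 3
    omega
  haveI : IsCyclic (A ⧸ V.subgroupOf A) := isCyclic_of_prime_card (p := 3) hq
  letI := IsCyclic.commGroup (α := A ⧸ V.subgroupOf A)
  have huu : u * u ∈ V := by
    have h1 : QuotientGroup.mk' (V.subgroupOf A) (⟨x, hxA⟩ * ⟨u, huA⟩ * ⟨x, hxA⟩⁻¹ * ⟨u, huA⟩⁻¹) = 1 := by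
      simp only [map_mul, map_inv]
      rw [mul_comm (QuotientGroup.mk' _ (⟨x, hxA⟩ : A))]
      group
    have h2 : (x : L) * u * (x : L)⁻¹ * u⁻¹ ∈ V :=
      (QuotientGroup.eq_one_iff (N := V.subgroupOf A) _).1 h1
    rw [x.2] at h2
    simpa using inv_mem h2
  have h2 := orderOf_dvd_of_pow_eq_one ((sq _).trans (F.sq_one _ huu))
  rw [← sq, orderOf_pow, hu3] at h2
  norm_num at h2

end Four

end CfsgLib.S3222
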