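import Cfsg.Agent.InvChar.ThreeSixty
import Mathlib.GroupTheory.SpecificGroups.Alternating
import Mathlib.GroupTheory.GroupAction.MultipleTransitivity

/-!
Extensions of `A₆` of degree two whose outer involution fixes an element of order three.
-/

set_option autoImplicit false
set_option linter.unusedSectionVars false
set_option linter.style.haveILetI false
set_option linter.deprecated false

namespace CfsgLib.S3222

open Subgroup Equiv
open scoped Pointwise

local notation "A6" => alternatingGroup (Fin 6)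

theorem three_cases {p : Perm (Fin 6)} (hp : orderOf p = 3) :
    p.cycleType = {3} ∨ p.cycleType = {3, 3} := by
  have h1 : ∀ n ∈ p.cycleType, n = 3 := fun n hn => by
    have h := Perm.dvd_of_mem_cycleType hn
    rw [hp] at h
    exact ((Nat.dvd_prime Nat.prime_three).1 h).resolve_left
      (by have := Perm.two_le_of_mem_cycleType hn; omega)
  have hrep := Multiset.eq_replicate_card.2 h1
  have hsum := p.sum_cycleType
  rw [hrep, Multiset.sum_replicate, smul_eq_mul] at hsum
  have hle := p.support.card_le_univ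
  rw [Fintype.card_fin] at hle
  obtain e | e | e : Multiset.card p.cycleType = 0 ∨ Multiset.card p.cycleType = 1 ∨
      Multiset.card p.cycleType = 2 := by omega
  · exfalso
    rw [Multiset.card_eq_zero, Perm.cycleType_eq_zero] at e
    rw [e, orderOf_one] at hp
    omega
  · left; rw [hrep, e]; rfl
  · right; rw [hrep, e]; rfl

/-- The standard product of two disjoint three-cycles. -/
def double : Perm (Fin 6) := Equiv.swap 0 1 * Equiv.swap 1 2 * (Equiv.swap 3 4 * Equiv.swap 4 5)

theorem double_facts : double.cycleType = {3, 3} ∧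
    ∃ r : Perm (Fin 6), Perm.sign r = -1 ∧ r * double * r⁻¹ = double :=
  ⟨by decide +kernel, Equiv.swap 0 3 * Equiv.swap 1 4 * Equiv.swap 2 5, by decide +kernel⟩

theorem isConj_double {a b : A6} (ha : (a : Perm (Fin 6)).cycleType = {3, 3})
    (hb : (b : Perm (Fin 6)).cycleType = {3, 3}) : IsConj a b := by
  suffices h : ∀ c : A6, (c : Perm (Fin 6)).cycleType = {3, 3} →
      ∃ g : A6, (g : Perm (Fin 6)) * double * (g : Perm (Fin 6))⁻¹ = c by
    obtain ⟨g, hg⟩ := h a ha
    obtain ⟨g', hg'⟩ := h b hb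
    refine isConj_iff.2 ⟨g' * g⁻¹, Subtype.ext ?_⟩
    push_cast
    rw [← hg, ← hg']
    group
  intro c hc
  obtain ⟨π, hπ⟩ := isConj_iff.1
    (Perm.isConj_iff_cycleType_eq.2 (double_facts.1.trans hc.symm))
  obtain ⟨r, hr, hrd⟩ := double_facts.2
  rcases Int.units_eq_one_or (Perm.sign π) with h | h
  · exact ⟨⟨π, Perm.mem_alternatingGroup.2 h⟩, hπ⟩
  · refine ⟨⟨π * r, Perm.mem_alternatingGroup.2 (by rw [map_mul, h, hr]; rfl)⟩, ?_⟩
    calc π * r * double * (π * r)⁻¹ = π * (r * double * r⁻¹) * π⁻¹ := by group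
      _ = c := by rw [hrd, hπ]

/-- An automorphism fixing an element of order three preserves the three-cycles. -/
theorem threeCycle_map (σ : A6 ≃* A6) {c : A6} (hc : orderOf c = 3) (hfix : σ c = c) {d : A6}
    (hd : (d : Perm (Fin 6)).IsThreeCycle) : (σ d : Perm (Fin 6)).IsThreeCycle := by
  have hc' : orderOf (c : Perm (Fin 6)) = 3 := by rw [Subgroup.orderOf_coe, hc]
  rcases three_cases hc' with h | h
  · obtain ⟨g, rfl⟩ := isConj_iff.1
      (alternatingGroup.isThreeCycle_isConj (by simp) (show (c : Perm (Fin 6)).IsThreeCycle from h) hd)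
    show Perm.cycleType _ = _
    rw [map_mul, map_mul, map_inv, hfix]
    push_cast
    rw [Perm.cycleType_conj]
    exact h
  · have hσd : orderOf (σ d : Perm (Fin 6)) = 3 := by
      rw [Subgroup.orderOf_coe, MulEquiv.orderOf_eq, ← Subgroup.orderOf_coe]
      exact hd.orderOf
    refine (three_cases hσd).resolve_right fun h33 => ?_
    obtain ⟨g, hg⟩ := isConj_iff.1 (isConj_double h h33)
    have hd' : d = σ.symm g * c * (σ.symm g)⁻¹ := by
      apply σ.injective
      simp [hfix, hg]
    have : (d : Perm (Fin 6)).cycleType = {3, 3} := by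
      rw [hd']
      push_cast
      rw [Perm.cycleType_conj]
      exact h
    rw [hd] at this
    exact absurd this (by decide)

theorem card_A6 : Nat.card A6 = 360 := by
  rw [nat_card_alternatingGroup, Nat.card_eq_fintype_card, Fintype.card_fin]
  rfl

theorem exists_even_moving : ∀ w : Fin 6, ∃ p : Perm (Fin 6), Perm.sign p = 1 ∧ p 0 = w := by
  intro w
  fin_cases w
  exacts [⟨1, by decide +kernel⟩, ⟨Equiv.swap 0 1 * Equiv.swap 2 3, by decide +kernel⟩,
    ⟨Equiv.swap 0 2 * Equiv.swap 1 3, by decide +kernel⟩, ⟨Equiv.swap 0 3 * Equiv.swap 1 2, by decide +kernel⟩,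
    ⟨Equiv.swap 0 4 * Equiv.swap 1 2, by decide +kernel⟩, ⟨Equiv.swap 0 5 * Equiv.swap 1 2, by decide +kernel⟩]

theorem pretransitive_A6 : MulAction.IsPretransitive A6 (Fin 6) := by
  refine ⟨fun x y => ?_⟩
  obtain ⟨p, hp, hpx⟩ := exists_even_moving x
  obtain ⟨q, hq, hqy⟩ := exists_even_moving y
  refine ⟨⟨q * p⁻¹, Perm.mem_alternatingGroup.2 (by rw [map_mul, map_inv, hp, hq]; rfl)⟩, ?_⟩
  show (q * p⁻¹) x = y
  rw [← hpx]
  simp [hqy]

theorem card_point_stabilizer (x : Fin 6) : Nat.card (MulAction.stabilizer A6 x) = 60 := by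
  haveI := pretransitive_A6
  have h := card_mul_index (MulAction.stabilizer A6 x)
  rw [MulAction.index_stabilizer_of_transitive A6 x, card_A6, Nat.card_eq_fintype_card (α := Fin 6),
    Fintype.card_fin] at h
  omega

/-- A subgroup of order sixty containing a three-cycle is a point stabilizer. -/
theorem exists_point {M : Subgroup A6} (hM : Nat.card M = 60) {d : A6} (hdM : d ∈ M)
    (hd : (d : Perm (Fin 6)).IsThreeCycle) : ∃ w : Fin 6, M = MulAction.stabilizer A6 w := by
  haveI : Fact (Nat.Prime 5) := ⟨by norm_num⟩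
  suffices h : ∃ w : Fin 6, ∀ m : M, m • w = w by
    obtain ⟨w, hw⟩ := h
    exact ⟨w, eq_of_le_of_card_ge (fun m hm => hw ⟨m, hm⟩) (by rw [card_point_stabilizer, hM])⟩
  obtain ⟨⟨g, hgM⟩, hg5⟩ := exists_prime_orderOf_dvd_card' (G := M) 5 (by rw [hM]; norm_num)
  rw [Subgroup.orderOf_mk, ← Subgroup.orderOf_coe] at hg5
  have hrep : ∀ n ∈ (g : Perm (Fin 6)).cycleType, n = 5 := fun n hn => by
    have h := Perm.dvd_of_mem_cycleType hn
    rw [hg5] at h
    exact ((Nat.dvd_prime (by norm_num)).1 h).resolve_left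
      (by have := Perm.two_le_of_mem_cycleType hn; omega)
  have hsum := (g : Perm (Fin 6)).sum_cycleType
  rw [Multiset.eq_replicate_card.2 hrep, Multiset.sum_replicate, smul_eq_mul] at hsum
  have hne : (g : Perm (Fin 6)) ≠ 1 := fun h => by rw [h, orderOf_one] at hg5; omega
  have hsupp : 5 ≤ (g : Perm (Fin 6)).support.card := by
    have : 0 < Multiset.card (g : Perm (Fin 6)).cycleType := by
      rw [Multiset.card_pos, ne_eq, Perm.cycleType_eq_zero]; exact hne
    omega
  have hcyc : (g : Perm (Fin 6)).IsCycle := by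
    rw [← Perm.card_cycleType_eq_one]
    have : (g : Perm (Fin 6)).support.card ≤ 6 := by
      simpa using (g : Perm (Fin 6)).support.card_le_univ
    have : 0 < Multiset.card (g : Perm (Fin 6)).cycleType := by
      rw [Multiset.card_pos, ne_eq, Perm.cycleType_eq_zero]; exact hne
    omega
  obtain ⟨y, hy⟩ := Finset.card_pos.1 (show 0 < (g : Perm (Fin 6)).support.card by omega)
  set O := MulAction.orbit M y
  have hsub : ((g : Perm (Fin 6)).support : Set (Fin 6)) ⊆ O := by
    intro x hx
    obtain ⟨i, hi⟩ := hcyc.exists_zpow_eq (Perm.mem_support.1 hy) (Perm.mem_support.1 hx)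
    exact ⟨⟨g ^ i, zpow_mem hgM i⟩, by
      show ((g ^ i : A6) : Perm (Fin 6)) y = x
      rw [SubgroupClass.coe_zpow, hi]⟩
  by_cases htr : ∀ x, x ∈ O
  · exfalso
    obtain ⟨x, hx⟩ : ∃ x, x ∉ (d : Perm (Fin 6)).support := by
      by_contra hall
      push Not at hall
      have := Finset.card_le_card (fun x _ => hall x : (Finset.univ : Finset (Fin 6)) ⊆ _)
      rw [hd.card_support, Finset.card_univ, Fintype.card_fin] at this
      omega
    have hor : MulAction.orbit M x = O := MulAction.orbit_eq_iff.2 (htr x)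
    have hidx : (MulAction.stabilizer M x).index = 6 := by
      rw [MulAction.index_stabilizer, hor, Set.eq_univ_of_forall htr, Set.ncard_univ,
        Nat.card_eq_fintype_card, Fintype.card_fin]
    have hmul := card_mul_index (MulAction.stabilizer M x)
    rw [hidx, hM] at hmul
    have hmem : (⟨d, hdM⟩ : M) ∈ MulAction.stabilizer M x := by
      show (d : Perm (Fin 6)) x = x
      simpa using hx
    have h3 := orderOf_dvd_natCard (MulAction.stabilizer M x) hmem
    rw [Subgroup.orderOf_mk, ← Subgroup.orderOf_coe, hd.orderOf,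
      show Nat.card (MulAction.stabilizer M x) = 10 by omega] at h3
    norm_num at h3
  · push Not at htr
    obtain ⟨w, hw⟩ := htr
    refine ⟨w, fun m => ?_⟩
    by_contra hne'
    have h2 : m • w ∉ O := fun h => hw (by
      rw [show O = MulAction.orbit M (m • w) from (MulAction.orbit_eq_iff.2 h).symm]
      exact ⟨m⁻¹, inv_smul_smul m w⟩)
    have h3 : w ∉ (g : Perm (Fin 6)).support := fun h => hw (hsub h)
    have h4 : m • w ∉ (g : Perm (Fin 6)).support := fun h => h2 (hsub h)
    have h5 := Finset.card_le_card (show (g : Perm (Fin 6)).support ⊆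
      ((Finset.univ : Finset (Fin 6)).erase w).erase (m • w) from fun x hx => by
        simp only [Finset.mem_erase, Finset.mem_univ, and_true]
        exact ⟨fun e => h4 (e ▸ hx), fun e => h3 (e ▸ hx)⟩)
    rw [Finset.card_erase_of_mem (by simpa using hne'), Finset.card_erase_of_mem (Finset.mem_univ _),
      Finset.card_univ, Fintype.card_fin] at h5
    omega

variable {G : Type*} [Group G] [Finite G]

/-- A group with a subgroup `A₆` of index two and a suitable outer involution is `S₆`. -/
theorem iso_symSix {K : Subgroup G} [K.Normal] (hKi : K.index = 2) (f : K ≃* A6) {t : G}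
    (htK : t ∉ K) {c : K} (hc : orderOf c = 3) (hct : (c : G) * t = t * (c : G))
    (htc : ∃ g : G, g * t ≠ t * g)
    (hcent : ∀ k ∈ K, k * t = t * k → (∀ x ∈ K, x * t = t * x → k * x = x * k) → k = 1) :
    Nonempty (G ≃* Perm (Fin 6)) := by
  let τ : K ≃* K := MulAut.conjNormal t
  let σ : A6 ≃* A6 := f.symm.trans (τ.trans f)
  have hσc : σ (f c) = f c := by
    show f (τ (f.symm (f c))) = f c
    rw [MulEquiv.symm_apply_apply]
    congr 1
    refine Subtype.ext ?_
    show (MulAut.conjNormal t c : K).1 = c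
    rw [MulAut.conjNormal_apply, mul_inv_eq_iff_eq_mul]
    exact hct.symm
  set L0 := MulAction.stabilizer A6 (0 : Fin 6)
  set d : A6 := ⟨Equiv.swap 1 2 * Equiv.swap 2 3, Perm.mem_alternatingGroup.2 (by decide +kernel)⟩
  have hd : (d : Perm (Fin 6)).IsThreeCycle := by
    show Perm.cycleType (Equiv.swap (1 : Fin 6) 2 * Equiv.swap 2 3) = {3}
    decide +kernel
  have hd0 : d ∈ L0 := by
    show ((Equiv.swap 1 2 * Equiv.swap 2 3 : Perm (Fin 6))) 0 = 0
    decide +kernel
  have hcf : orderOf (f c) = 3 := by rw [MulEquiv.orderOf_eq, hc]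
  obtain ⟨w, hw⟩ := exists_point (M := L0.map σ.toMonoidHom)
    (by rw [card_map_of_injective σ.injective, card_point_stabilizer])
    (mem_map_of_mem _ hd0) (threeCycle_map σ hcf hσc hd)
  obtain ⟨p, hp, hp0⟩ := exists_even_moving w
  set a : A6 := ⟨p, Perm.mem_alternatingGroup.2 hp⟩
  -- the subgroup of index six
  set Lk : Subgroup G := (L0.comap f.toMonoidHom).map K.subtype
  set N := normalizer (Lk : Set G)
  set s : G := ((f.symm a : K) : G)⁻¹ * t
  have hsN : s ∈ N := by
    rw [mem_normalizer_iff_map_conj_eq]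
    refine eq_of_le_of_card_ge ?_ (le_of_eq (Nat.card_congr (Lk.equivMapOfInjective (MulAut.conj s : G ≃* G).toMonoidHom (MulAut.conj s).injective).toEquiv))
    rintro _ ⟨_, ⟨k, hk, rfl⟩, rfl⟩
    have hσk : σ (f k) ∈ MulAction.stabilizer A6 w := hw ▸ mem_map_of_mem σ.toMonoidHom hk
    have hσk' : (σ (f k) : Perm (Fin 6)) w = w := hσk
    refine ⟨(f.symm a)⁻¹ * τ k * f.symm a, ?_, ?_⟩
    · show ((f ((f.symm a)⁻¹ * τ k * f.symm a) : A6) : Perm (Fin 6)) 0 = 0
      have e : σ (f k) = f (τ k) := by simp [σ]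
      rw [map_mul, map_mul, map_inv, MulEquiv.apply_symm_apply, ← e]
      show (p⁻¹ * (σ (f k) : Perm (Fin 6)) * p) 0 = 0
      rw [Perm.mul_apply, Perm.mul_apply, hp0, hσk', ← hp0]
      simp
    · show ((f.symm a : K) : G)⁻¹ * (MulAut.conjNormal t k : K).1 * (f.symm a : K) = s * k * s⁻¹
      rw [MulAut.conjNormal_apply]
      simp only [s]
      group
  have hLN : Lk ≤ N := le_normalizer
  have hsK : s ∉ K := fun h => htK (by
    have := mul_mem (f.symm a).2 h
    rwa [mul_inv_cancel_left] at this)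
  have hNK : N ⊔ K = ⊤ := by
    refine eq_top_iff.2 fun g _ => ?_
    by_cases hg : g ∈ K
    · exact mem_sup_right hg
    · have : s⁻¹ * g ∈ K := (mul_mem_iff_of_index_two hKi).2
        (by simp [hg, hsK])
      have h2 := mul_mem (mem_sup_left hsN : s ∈ N ⊔ K) (mem_sup_right this : s⁻¹ * g ∈ N ⊔ K)
      rwa [mul_inv_cancel_left] at h2
  haveI hsimpleA : IsSimpleGroup A6 := alternatingGroup.isSimpleGroup (by simp)
  haveI hsimpleK : IsSimpleGroup K := MulEquiv.isSimpleGroup f
  have hK : Nat.card K = 360 := by rw [Nat.card_congr f.toEquiv, card_A6]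
  have hLkc : Nat.card (L0.comap f.toMonoidHom) = 60 := by
    rw [← card_point_stabilizer 0, Nat.card_congr]
    exact (f.toEquiv.subtypeEquiv fun k => Iff.rfl)
  have hNKne : N.subgroupOf K ≠ ⊤ := by
    intro h
    have hn : (L0.comap f.toMonoidHom).Normal := ⟨fun x hx k => by
      have hkN : (k : G) ∈ N := (show k ∈ N.subgroupOf K from h ▸ mem_top k)
      obtain ⟨y, hy, hy'⟩ := (mem_normalizer_iff.1 hkN (x : G)).1 ⟨x, hx, rfl⟩
      have : y = k * x * k⁻¹ := Subtype.ext hy'
      exact this ▸ hy⟩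
    rcases hn.eq_bot_or_eq_top with e | e
    · rw [e, card_bot] at hLkc; omega
    · rw [e, card_top, hK] at hLkc; omega
  have hidx : N.index = 6 := by
    have h1 : N.index = N.relIndex K := by
      rw [← relIndex_top_right N, ← hNK]
      have e1 := relIndex_mul_index (inf_le_left : N ⊓ K ≤ N)
      have e2 := relIndex_mul_index (inf_le_right : N ⊓ K ≤ K)
      rw [inf_relIndex_left] at e1
      rw [inf_relIndex_right, hKi] at e2
      have e3 : K.relIndex N = 2 := by
        rw [← relIndex_sup_right (H := N) (K := K), hNK, relIndex_top_right, hKi]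
      rw [e3] at e1
      rw [hNK, relIndex_top_right]
      omega
    rw [h1]
    have hge : 6 ≤ (N.subgroupOf K).index := InvChar.index_ge_six hK _ hNKne
    have hle : N.relIndex K ∣ (L0.comap f.toMonoidHom).index := by
      refine index_dvd_of_le (fun k hk => ?_)
      exact hLN ⟨k, hk, rfl⟩
    have hm := card_mul_index (L0.comap f.toMonoidHom)
    rw [hLkc, hK] at hm
    rw [show (L0.comap f.toMonoidHom).index = 6 by omega] at hle
    have := Nat.le_of_dvd (by norm_num) hle
    show (N.subgroupOf K).index = 6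
    change (N.subgroupOf K).index ≤ 6 at this
    omega
  let e : G ⧸ N ≃ Fin 6 := Finite.equivFinOfCardEq hidx
  let φ : G →* Perm (Fin 6) := e.permCongrHom.toMonoidHom.comp (MulAction.toPermHom G (G ⧸ N))
  have hker : φ.ker = ⊥ := by
    have hkN : φ.ker ≤ N := fun g hg => by
      have h1 : MulAction.toPermHom G (G ⧸ N) g = 1 := e.permCongrHom.injective
        (by rw [map_one]; exact hg)
      have h2 := congrArg (fun q : Perm (G ⧸ N) => q ((1 : G) : G ⧸ N)) h1
      simp only [Perm.one_apply] at h2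
      change ((g * 1 : G) : G ⧸ N) = ((1 : G) : G ⧸ N) at h2
      rw [mul_one, QuotientGroup.eq, mul_one] at h2
      simpa using inv_mem h2
    have hbot : φ.ker.subgroupOf K = ⊥ :=
      ((inferInstance : (φ.ker.subgroupOf K).Normal).eq_bot_or_eq_top).resolve_right fun h =>
        hNKne (top_le_iff.1 fun k _ => hkN (show k ∈ φ.ker.subgroupOf K from h ▸ mem_top k))
    refine (eq_bot_iff_forall _).2 fun r hr => ?_
    by_contra hr1
    have hrK : r ∉ K := fun h => hr1 (congrArg Subtype.val
      ((eq_bot_iff_forall _).1 hbot ⟨r, h⟩ hr))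
    -- `r` commutes with everything
    have hcomm : ∀ x : G, r * x = x * r := by
      intro x
      have h1 : r * x * r⁻¹ * x⁻¹ ∈ φ.ker := by
        rw [mul_assoc r, mul_assoc r]
        exact mul_mem hr (φ.normal_ker.conj_mem _ (inv_mem hr) x)
      have h2 : r * x * r⁻¹ * x⁻¹ ∈ K := by
        simp only [mul_mem_iff_of_index_two hKi, inv_mem_iff]
        tauto
      have := congrArg Subtype.val ((eq_bot_iff_forall _).1 hbot ⟨_, h2⟩ h1)
      simp only [OneMemClass.coe_one] at this
      rwa [mul_inv_eq_one, mul_inv_eq_iff_eq_mul] at this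
    have hk : r * t ∈ K := by simp [mul_mem_iff_of_index_two hKi, hrK, htK]
    have h0 : r * t = 1 := hcent _ hk
      (by rw [← mul_assoc t, hcomm t])
      (fun x _ hx => by rw [mul_assoc, ← hx, ← mul_assoc, hcomm x, mul_assoc])
    obtain ⟨g, hg⟩ := htc
    apply hg
    have ht : t = r⁻¹ := (inv_eq_of_mul_eq_one_right h0).symm
    rw [ht]
    calc g * r⁻¹ = r⁻¹ * (r * g) * r⁻¹ := by group
      _ = r⁻¹ * (g * r) * r⁻¹ := by rw [hcomm g]
      _ = r⁻¹ * g := by group
  have hG : Nat.card G = 720 := by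
    rw [← card_mul_index K, hK, hKi]
  refine ⟨MulEquiv.ofBijective φ ((Nat.bijective_iff_injective_and_card φ).2
    ⟨(MonoidHom.ker_eq_bot_iff φ).1 hker, ?_⟩)⟩
  rw [hG, Nat.card_perm, Nat.card_eq_fintype_card, Fintype.card_fin]
  rfl

end CfsgLib.S3222
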