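import Cfsg.Agent.Recog3222.Setup
import Cfsg.Agent.Recog3222.Small
import Cfsg.Agent.Recog3222.Six

/-!
Groups with a 2-central involution whose centralizer is `Z₂ × S₄` and with `C(S′) = S`.
-/

set_option autoImplicit false
set_option linter.unusedSectionVars false
set_option linter.style.haveILetI false
set_option linter.deprecated false

namespace CfsgLib.S3222

open Subgroup

/-- The double transposition. -/
def z4 : Equiv.Perm (Fin 4) := Equiv.swap 0 1 * Equiv.swap 2 3

/-- A transposition. -/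
def r4 : Equiv.Perm (Fin 4) := Equiv.swap 0 1

theorem four_facts : zW.2 = z4 ∧ z4 * z4 = 1 ∧ z4 ≠ 1 ∧ r4 * r4 = 1 ∧ r4 ≠ 1 ∧ r4 ≠ z4 ∧
    r4 * z4 = z4 * r4 ∧ Equiv.Perm.sign z4 = 1 := by
  decide +kernel

theorem center_four : ∀ s : Equiv.Perm (Fin 4), (∀ x : Equiv.Perm (Fin 4), s * x = x * s) → s = 1 := by
  decide +kernel

theorem even_split : ∀ s : Equiv.Perm (Fin 4), Equiv.Perm.sign s = 1 →
    ∃ a b : Equiv.Perm (Fin 4), a * a * a = 1 ∧ b * b * b = 1 ∧ s = a * b := by
  decide +kernel

theorem gen_odd : ∀ s p : Equiv.Perm (Fin 4), Equiv.Perm.sign s ≠ 1 → Equiv.Perm.sign p ≠ 1 →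
    Equiv.Perm.sign (p * s⁻¹) = 1 := by
  intro s p hs hp
  rw [map_mul, map_inv, (Int.units_eq_one_or _).resolve_left hs, (Int.units_eq_one_or _).resolve_left hp]
  rfl

/-- The alternating group of degree four. -/
abbrev A4 := alternatingGroup (Fin 4)

/-- Its four group. -/
def V4 : Subgroup A4 where
  carrier := {a | (a : Equiv.Perm (Fin 4)) * a = 1}
  one_mem' := by simp
  mul_mem' := by
    intro a b ha hb
    have : ∀ x y : Equiv.Perm (Fin 4), Equiv.Perm.sign x = 1 → Equiv.Perm.sign y = 1 →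
        x * x = 1 → y * y = 1 → x * y * (x * y) = 1 := by decide +kernel
    exact this a b a.2 b.2 ha hb
  inv_mem' := by
    intro a ha
    show (a : Equiv.Perm (Fin 4))⁻¹ * (a : Equiv.Perm (Fin 4))⁻¹ = 1
    rw [← mul_inv_rev, show (a : Equiv.Perm (Fin 4)) * a = 1 from ha, inv_one]

theorem mem_V4 {a : A4} : a ∈ V4 ↔ (a : Equiv.Perm (Fin 4)) * a = 1 := Iff.rfl

/-- The double transposition as an even permutation. -/
def z4' : A4 := ⟨z4, Equiv.Perm.mem_alternatingGroup.2 four_facts.2.2.2.2.2.2.2⟩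

theorem alt_four_card : Fintype.card A4 = 12 ∧
    Fintype.card {a : A4 // (a : Equiv.Perm (Fin 4)) * a = 1} = 4 := by
  decide +kernel

theorem alt_four_fusion : ∀ a b : A4, (a : Equiv.Perm (Fin 4)) * a = 1 → (b : Equiv.Perm (Fin 4)) * b = 1 →
    a ≠ 1 → b ≠ 1 → ∃ c : A4, c * a * c⁻¹ = b := by decide +kernel

theorem alt_four_centralizer : ∀ a : A4, a * z4' = z4' * a → (a : Equiv.Perm (Fin 4)) * a = 1 := by
  decide +kernel

theorem alt_four_outside : ∃ c : A4, (c : Equiv.Perm (Fin 4)) * c ≠ 1 := by decide +kernel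

section InK

variable {G : Type*} [Group G] [Finite G] (D : Data G) {K : Subgroup G} [K.Normal]
  (hKi : K.index = 2) (htK : D.t ∉ K)

include hKi

theorem mul_t_mem_iff (htK : D.t ∉ K) (x : G) : x * D.t ∈ K ↔ x ∉ K := by
  rw [mul_mem_iff_of_index_two hKi]; simp [htK]

theorem card_inf (htK : D.t ∉ K) {S : Subgroup G} (ht : D.t ∈ S) :
    Nat.card (K.subgroupOf S) * 2 = Nat.card S := by
  have h := card_mul_index (K.subgroupOf S)
  have hd : (K.subgroupOf S).index ∣ 2 := hKi ▸ relIndex_dvd_index_of_normal K S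
  rcases (Nat.dvd_prime Nat.prime_two).1 hd with e | e
  · rw [index_eq_one, subgroupOf_eq_top] at e
    exact absurd (e ht) htK
  · rwa [e] at h

/-- `C_K(t)`. -/
abbrev HK (D : Data G) (K : Subgroup G) : Subgroup K := (centralizer ({D.t} : Set G)).subgroupOf K

omit hKi in
theorem mem_HK {x : K} : x ∈ HK D K ↔ (x : G) * D.t = D.t * (x : G) := by
  rw [HK, mem_subgroupOf, mem_centralizer_singleton_iff]

theorem card_HK (htK : D.t ∉ K) : Nat.card (HK D K) = 24 := by
  have h := card_inf D hKi htK (S := centralizer ({D.t} : Set G))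
    (mem_centralizer_singleton_iff.2 rfl)
  rw [D.card_C] at h
  have e : Nat.card (HK D K) = Nat.card (K.subgroupOf (centralizer ({D.t} : Set G))) :=
    Nat.card_congr
      { toFun := fun x => ⟨⟨((x : K) : G), x.2⟩, (x : K).2⟩
        invFun := fun x => ⟨⟨((x : centralizer ({D.t} : Set G)) : G), x.2⟩, x.1.2⟩
        left_inv := fun _ => rfl
        right_inv := fun _ => rfl }
  omega

/-- The isomorphism `C_K(t) ≅ S₄`. -/
theorem exists_psi (htK : D.t ∉ K) : ∃ ψ : HK D K ≃* Equiv.Perm (Fin 4),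
    ∀ x : HK D K, ∀ p : W, D.lift p = ((x : K) : G) → ψ x = p.2 := by
  let π : HK D K →* Equiv.Perm (Fin 4) :=
    { toFun := fun x => (D.e ⟨((x : K) : G), x.2⟩).2
      map_one' := by
        show (D.e 1).2 = 1
        rw [map_one]; rfl
      map_mul' := fun x y => by
        show (D.e (⟨((x : K) : G), x.2⟩ * ⟨((y : K) : G), y.2⟩)).2 = _
        rw [map_mul]; rfl }
  have hπ : ∀ x : HK D K, ∀ p : W, D.lift p = ((x : K) : G) → π x = p.2 := by
    intro x p hp
    show (D.e ⟨((x : K) : G), x.2⟩).2 = p.2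
    rw [show (⟨((x : K) : G), x.2⟩ : centralizer ({D.t} : Set G)) = D.e.symm p from Subtype.ext hp.symm,
      MulEquiv.apply_symm_apply]
  have hinj : Function.Injective π := by
    refine (injective_iff_map_eq_one π).2 fun x hx => ?_
    obtain ⟨p, hp⟩ := D.exists_lift (mem_centralizer_singleton_iff.1 x.2)
    rcases snd_one p ((hπ x p hp).symm.trans hx) with rfl | rfl
    · rw [map_one] at hp; exact Subtype.ext (Subtype.ext hp.symm)
    · rw [D.lift_a] at hp; exact absurd (hp ▸ (x : K).2) htK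
  exact ⟨MulEquiv.ofBijective π ((Nat.bijective_iff_injective_and_card π).2
    ⟨hinj, by rw [card_HK D hKi htK, Nat.card_perm, Nat.card_eq_fintype_card, Fintype.card_fin]; rfl⟩), hπ⟩

theorem z_mem : D.z ∈ K := by
  refine (show ⁅D.Q, D.Q⁆ ≤ K from commutator_le.2 fun x _ y _ => ?_) D.z_mem_commutator
  rw [commutatorElement_def]
  simp only [mul_mem_iff_of_index_two hKi, inv_mem_iff]
  tauto

/-- `z` in `K`. -/
abbrev zK (D : Data G) (hKi : K.index = 2) : K := ⟨D.z, z_mem D hKi⟩

omit hKi in
theorem zK_mem_HK (hKi : K.index = 2) : zK D hKi ∈ HK D K := (mem_HK D).2 (D.lift_comm zW)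

theorem centralizer_zK : centralizer ({zK D hKi} : Set K) = D.Q.subgroupOf K := by
  ext x
  rw [mem_centralizer_singleton_iff, mem_subgroupOf, Subtype.ext_iff]
  refine ⟨fun h => D.mem_Q_of_z h, fun h => ?_⟩
  exact mem_centralizer_singleton_iff.1 (mem_inf.1 h).2

theorem card_centralizer_zK (htK : D.t ∉ K) : Nat.card (centralizer ({zK D hKi} : Set K)) = 8 := by
  rw [centralizer_zK D hKi]
  have h := card_inf D hKi htK (S := D.Q) (D.lift_a ▸ D.lift_mem_Q (aW_comm zW))
  rw [D.card_Q_eq] at h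
  have e : Nat.card (D.Q.subgroupOf K) = Nat.card (K.subgroupOf D.Q) :=
    Nat.card_congr
      { toFun := fun x => ⟨⟨((x : K) : G), x.2⟩, (x : K).2⟩
        invFun := fun x => ⟨⟨((x : D.Q) : G), x.2⟩, x.1.2⟩
        left_inv := fun _ => rfl
        right_inv := fun _ => rfl }
  omega

variable {ψ : HK D K ≃* Equiv.Perm (Fin 4)}

theorem psi_zK (hψ : ∀ x : HK D K, ∀ p : W, D.lift p = ((x : K) : G) → ψ x = p.2) :
    ψ ⟨zK D hKi, zK_mem_HK D hKi⟩ = z4 :=
  (hψ _ zW rfl).trans four_facts.1

theorem exists_eight (htK : D.t ∉ K)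
    (hψ : ∀ x : HK D K, ∀ p : W, D.lift p = ((x : K) : G) → ψ x = p.2) :
    ∃ a b : K, InvChar.EightData (zK D hKi) a b := by
  have hz := psi_zK D hKi hψ
  have hcen : ∀ s : Equiv.Perm (Fin 4), s * z4 = z4 * s →
      ((ψ.symm s : HK D K) : K) ∈ centralizer ({zK D hKi} : Set K) := fun s hs => by
    rw [mem_centralizer_singleton_iff]
    have : ψ.symm s * ⟨zK D hKi, zK_mem_HK D hKi⟩ = ⟨zK D hKi, zK_mem_HK D hKi⟩ * ψ.symm s := by
      apply ψ.injective
      rw [map_mul, map_mul, MulEquiv.apply_symm_apply, hz, hs]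
    exact congrArg Subtype.val this
  have hzinj : ∀ s : Equiv.Perm (Fin 4), ((ψ.symm s : HK D K) : K) = zK D hKi → s = z4 := fun s hs => by
    rw [← hz, ← show ψ.symm s = ⟨zK D hKi, zK_mem_HK D hKi⟩ from Subtype.ext hs, MulEquiv.apply_symm_apply]
  have hord : orderOf (zK D hKi) = 2 := by
    refine orderOf_eq_prime ?_ ?_
    · refine Subtype.ext ?_
      show D.z ^ 2 = 1
      rw [sq, Data.z, ← map_mul, facts.2.2.2.2.2.2.2.2.1, map_one]
    · intro h
      exact facts.2.1 (D.lift_injective ((congrArg Subtype.val h).trans (map_one _).symm))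
  refine InvChar.exists_eightData hord (card_centralizer_zK D hKi htK) ?_
    (hcen r4 four_facts.2.2.2.2.2.2.1) ?_ ?_ fun h => four_facts.2.2.2.2.2.1 (hzinj _ h)
  · refine ⟨_, hcen r4 four_facts.2.2.2.2.2.2.1, _,
      hcen (Equiv.swap 0 2 * Equiv.swap 1 3) (by decide +kernel), fun h => ?_⟩
    have := congrArg ψ (show ψ.symm r4 * ψ.symm (Equiv.swap 0 2 * Equiv.swap 1 3) =
      ψ.symm (Equiv.swap 0 2 * Equiv.swap 1 3) * ψ.symm r4 from Subtype.ext h)
    simp only [map_mul, MulEquiv.apply_symm_apply] at this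
    exact absurd this (by decide +kernel)
  · rw [← Subgroup.coe_mul, ← map_mul, four_facts.2.2.2.1, map_one, Subgroup.coe_one]
  · intro h
    exact four_facts.2.2.2.2.1 (ψ.symm.injective ((Subtype.ext h).trans (map_one ψ.symm).symm))

/-- If `K` has a subgroup of index two then `G = C(t)`. -/
theorem card_eq_of_index_two (htK : D.t ∉ K) {H0 : Subgroup K} (hH0 : H0.index = 2)
    (hψ : ∀ x : HK D K, ∀ p : W, D.lift p = ((x : K) : G) → ψ x = p.2) :
    Nat.card G = 48 := by
  classical
  haveI : Fact (Nat.Prime 2) := ⟨Nat.prime_two⟩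
  -- the Sylow order
  obtain ⟨S, hS⟩ := D.exists_sylow
  have hodd : Odd D.Q.index := by
    rw [← hS]; exact Nat.not_even_iff_odd.1 fun he => S.not_dvd_index he.two_dvd
  obtain ⟨m, hm, hmodd⟩ : ∃ m, Nat.card K = 8 * m ∧ Odd m := by
    refine ⟨D.Q.index, ?_, hodd⟩
    have h1 := card_mul_index D.Q
    have h2 := card_mul_index K
    rw [D.card_Q_eq] at h1; rw [hKi] at h2
    omega
  set L : Subgroup K := closure {x : K | Odd (orderOf x)} with hLdef
  have hodd_mem : ∀ (H : Subgroup K), H.index = 2 → ∀ x : K, Odd (orderOf x) → x ∈ H := by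
    intro H hH x ⟨k, hk⟩
    have h1 : x = (x * x) ^ (k + 1) := by
      rw [← sq, ← pow_mul, show 2 * (k + 1) = orderOf x + 1 by omega, pow_succ, pow_orderOf_eq_one, one_mul]
    rw [h1]
    exact pow_mem (mul_self_mem_of_index_two hH x) _
  have hLH0 : L ≤ H0 := (closure_le _).2 fun x hx => hodd_mem H0 hH0 x hx
  have hLinv : ∀ φ : K ≃* K, ∀ x ∈ L, φ x ∈ L := by
    intro φ x hx
    have : L.map φ.toMonoidHom ≤ L := by
      rw [map_le_iff_le_comap, hLdef, closure_le]
      intro y hy
      exact subset_closure (show Odd (orderOf (φ y)) by rw [MulEquiv.orderOf_eq]; exact hy)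
    exact this (mem_map_of_mem _ hx)
  haveI hLn : L.Normal := ⟨fun x hx g => hLinv (MulAut.conj g) x hx⟩
  have htwo : IsPGroup 2 (K ⧸ L) := by
    intro q
    obtain ⟨x, rfl⟩ := QuotientGroup.mk_surjective q
    obtain ⟨j, n, hn, hxn⟩ := Nat.exists_eq_pow_mul_and_not_dvd (orderOf_pos x).ne' 2 (by norm_num)
    refine ⟨j, ?_⟩
    rw [← QuotientGroup.mk_pow, QuotientGroup.eq_one_iff]
    refine subset_closure ?_
    show Odd (orderOf (x ^ 2 ^ j))
    rw [orderOf_pow' _ (by positivity), hxn, Nat.gcd_mul_right_left, Nat.mul_div_cancel_left _ (by positivity)]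
    exact Nat.odd_iff.2 (Nat.two_dvd_ne_zero.1 hn)
  -- the even elements of `C_K(t)`
  have hev : ∀ s : Equiv.Perm (Fin 4), Equiv.Perm.sign s = 1 → ((ψ.symm s : HK D K) : K) ∈ L := by
    intro s hs
    obtain ⟨a, b, ha, hb, rfl⟩ := even_split s hs
    have h3 : ∀ c : Equiv.Perm (Fin 4), c * c * c = 1 → ((ψ.symm c : HK D K) : K) ∈ L := fun c hc => by
      refine subset_closure ?_
      show Odd (orderOf ((ψ.symm c : HK D K) : K))
      rw [Subgroup.orderOf_coe, MulEquiv.orderOf_eq]
      exact Odd.of_dvd_nat (by decide : Odd 3)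
        (orderOf_dvd_of_pow_eq_one (by rw [pow_three, ← mul_assoc]; exact hc))
    rw [map_mul, Subgroup.coe_mul]
    exact L.mul_mem (h3 a ha) (h3 b hb)
  let ι : A4 →* L :=
    { toFun := fun a => ⟨((ψ.symm (a : Equiv.Perm (Fin 4)) : HK D K) : K), hev _ a.2⟩
      map_one' := Subtype.ext (by simp)
      map_mul' := fun a b => Subtype.ext (by simp) }
  have hι : Function.Injective ι := fun a b h =>
    Subtype.ext (ψ.symm.injective (Subtype.ext ((congrArg (fun y : L => (y : K)) h :) :
      ((ψ.symm (a : Equiv.Perm (Fin 4)) : HK D K) : K) = ((ψ.symm (b : Equiv.Perm (Fin 4)) : HK D K) : K))))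
  -- the order of `L`
  have h4 : 4 ∣ Nat.card L := by
    have h12 : Nat.card ι.range = 12 := by
      rw [← Nat.card_congr (MonoidHom.ofInjective hι).toEquiv, Nat.card_eq_fintype_card, alt_four_card.1]
    exact dvd_trans (by rw [h12]; norm_num) (card_subgroup_dvd_card ι.range)
  have hLm : Nat.card L = 4 * m := by
    have h1 := card_mul_index H0
    rw [hH0, hm] at h1
    have h2 : Nat.card L ∣ 4 * m := (card_dvd_of_le hLH0).trans (dvd_of_eq (by omega))
    obtain ⟨i, hi⟩ := IsPGroup.iff_card.1 htwo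
    have h3 := card_mul_index L
    rw [index, hi, hm] at h3
    obtain ⟨c, hc⟩ := h4
    rw [hc] at h2 h3 ⊢
    have hcm : c ∣ m := (Nat.mul_dvd_mul_iff_left (by norm_num)).1 h2
    have hcm' : m ∣ c * 2 ^ i := ⟨2, by linarith⟩
    have : m ∣ c := (Nat.Coprime.pow_right i hmodd.coprime_two_right).dvd_of_dvd_mul_right hcm'
    rw [Nat.dvd_antisymm hcm this]
  have hnotle : ∀ x : HK D K, (x : K) ∈ L → Equiv.Perm.sign (ψ x) = 1 := by
    intro x hx
    by_contra hs
    have hall : HK D K ≤ L := by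
      intro y hy
      by_cases hy' : Equiv.Perm.sign (ψ ⟨y, hy⟩) = 1
      · have := hev _ hy'
        rwa [MulEquiv.symm_apply_apply] at this
      · have := hev _ (gen_odd (ψ x) (ψ ⟨y, hy⟩) hs hy')
        rw [map_mul, map_inv, MulEquiv.symm_apply_apply, MulEquiv.symm_apply_apply] at this
        simpa using L.mul_mem this hx
    have := card_dvd_of_le hall
    rw [card_HK D hKi htK, hLm] at this
    obtain ⟨k, hk⟩ := hmodd
    obtain ⟨c, hc⟩ := this
    omega
  have hmem : ∀ x : L, ((x : K) : G) * D.t = D.t * ((x : K) : G) → x ∈ ι.range := by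
    intro x hx
    have hxH : (x : K) ∈ HK D K := (mem_HK D).2 hx
    refine ⟨⟨ψ ⟨_, hxH⟩, Equiv.Perm.mem_alternatingGroup.2 (hnotle ⟨_, hxH⟩ x.2)⟩, Subtype.ext ?_⟩
    show ((ψ.symm (ψ ⟨(x : K), hxH⟩) : HK D K) : K) = (x : K)
    rw [MulEquiv.symm_apply_apply]
  have hιt : ∀ a : A4, (((ι a : L) : K) : G) * D.t = D.t * (((ι a : L) : K) : G) := fun a =>
    (mem_HK D).1 (ψ.symm (a : Equiv.Perm (Fin 4))).2
  set V : Subgroup L := V4.map ι
  have hzι : ((ι z4' : L) : K) = zK D hKi := by
    show ((ψ.symm z4 : HK D K) : K) = zK D hKi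
    rw [← psi_zK D hKi hψ, MulEquiv.symm_apply_apply]
  have hVc : Nat.card V = 4 := by
    rw [card_map_of_injective hι]
    exact (Nat.card_congr (Equiv.subtypeEquivRight fun a => mem_V4)).trans
      (Nat.card_eq_fintype_card.trans alt_four_card.2)
  have hmemV : ι z4' ∈ V := mem_map_of_mem ι (mem_V4.2 four_facts.2.1)
  have hV : FourHyp V (ι z4') :=
    { card_four := hVc
      sq_one := by
        rintro _ ⟨a, ha, rfl⟩
        rw [← map_mul, show a * a = 1 from Subtype.ext ha, map_one]
      mem := hmemV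
      ne_one := by
        rw [map_ne_one_iff ι hι]
        exact fun h => four_facts.2.2.1 (congrArg Subtype.val h)
      centralizer_eq := by
        ext x
        rw [mem_centralizer_singleton_iff]
        constructor
        · intro hx
          have h1 : ((x : K) : G) ∈ D.Q := D.mem_Q_of_z (by
            have := congrArg (fun y : L => ((y : K) : G)) hx
            simp only [Subgroup.coe_mul, hzι] at this
            exact this)
          obtain ⟨a, rfl⟩ := hmem x (mem_centralizer_singleton_iff.1 (mem_inf.1 h1).1)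
          rw [← map_mul, ← map_mul] at hx
          exact mem_map_of_mem ι (mem_V4.2 (alt_four_centralizer a (hι hx)))
        · rintro ⟨a, ha, rfl⟩
          rw [← map_mul, ← map_mul]
          congr 1
          have : ∀ a : A4, (a : Equiv.Perm (Fin 4)) * a = 1 → a * z4' = z4' * a := by decide +kernel
          exact this a ha
      fusion := by
        rintro _ ⟨a, ha, rfl⟩ hne
        obtain ⟨c, hc⟩ := alt_four_fusion z4' a four_facts.2.1 ha
          (fun h => four_facts.2.2.1 (congrArg Subtype.val h)) ((map_ne_one_iff ι hι).1 hne)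
        exact isConj_iff.2 ⟨ι c, by rw [← map_inv, ← map_mul, ← map_mul, hc]⟩
      odd_index := by
        have h := card_mul_index V
        rw [hVc, hLm] at h
        rw [show V.index = m by omega]
        exact hmodd }
  have hVn : ι.range ≤ normalizer (V : Set L) := by
    rw [MonoidHom.range_eq_map]
    refine le_trans ?_ (le_normalizer_map ι)
    apply map_mono
    intro a _
    refine mem_normalizer_iff.2 fun b => ?_
    rw [mem_V4, mem_V4]
    push_cast
    constructor
    · intro hb
      rw [conj_mul, hb]; group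
    · intro hb
      rw [conj_mul] at hb
      exact conj_eq_one_iff.1 hb
  obtain ⟨c, hc⟩ := alt_four_outside
  have hcV : ι c ∉ V := fun ⟨a, ha, hac⟩ => hc (mem_V4.1 (hι hac ▸ ha))
  rcases hV.card_cases (hVn ⟨c, rfl⟩) hcV with h12 | ⟨h60, hperf⟩
  · have h2 := card_mul_index K
    rw [hKi] at h2
    omega
  · exfalso
    let τ : K ≃* K := MulAut.conjNormal D.t
    let σ : L ≃* L :=
      { toFun := fun x => ⟨τ x, hLinv τ x x.2⟩
        invFun := fun x => ⟨τ.symm x, hLinv τ.symm x x.2⟩
        left_inv := fun x => Subtype.ext (τ.symm_apply_apply _)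
        right_inv := fun x => Subtype.ext (τ.apply_symm_apply _)
        map_mul' := fun x y => Subtype.ext (map_mul τ _ _) }
    have hσfix : ∀ x : L, σ x = x ↔ x ∈ ι.range := by
      intro x
      constructor
      · intro hx
        refine hmem x ?_
        have := congrArg (fun y : L => ((y : K) : G)) hx
        change (MulAut.conjNormal D.t (x : K) : K).1 = ((x : K) : G) at this
        rw [MulAut.conjNormal_apply, mul_inv_eq_iff_eq_mul] at this
        exact this.symm
      · rintro ⟨a, rfl⟩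
        refine Subtype.ext (Subtype.ext ?_)
        show (MulAut.conjNormal D.t ((ι a : L) : K) : K).1 = _
        rw [MulAut.conjNormal_apply, mul_inv_eq_iff_eq_mul]
        exact (hιt a).symm
    refine no_aut_60 h60 hperf hV σ (fun x => Subtype.ext (Subtype.ext ?_)) ι.range
      (by rw [← Nat.card_congr (MonoidHom.ofInjective hι).toEquiv, Nat.card_eq_fintype_card, alt_four_card.1])
      (fun x ⟨a, _, ha⟩ => ⟨a, ha⟩) hVn hσfix
    show (MulAut.conjNormal D.t (MulAut.conjNormal D.t (x : K)) : K).1 = _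
    rw [MulAut.conjNormal_apply, MulAut.conjNormal_apply, inv_eq_of_mul_eq_one_right D.t_sq]
    calc D.t * (D.t * ((x : K) : G) * D.t) * D.t = D.t * D.t * ((x : K) : G) * (D.t * D.t) := by group
      _ = _ := by rw [D.t_sq]; group

end InK

/-- The theorem. -/
theorem main {G : Type*} [Group G] [Finite G] (D : Data G) :
    (Group.IsSolvable G → centralizer ({D.t} : Set G) = ⊤) ∧
      (¬ Group.IsSolvable G → Nonempty (G ≃* Equiv.Perm (Fin 6))) := by
  obtain ⟨K, hKn, hKi, htK⟩ := D.exists_index_two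
  obtain ⟨ψ, hψ⟩ := exists_psi D hKi htK
  by_cases h2 : ∃ H0 : Subgroup K, H0.index = 2
  · obtain ⟨H0, hH0⟩ := h2
    have h48 := card_eq_of_index_two D hKi htK hH0 hψ
    have hsol : Group.IsSolvable G :=
      Char.isSolvable_of_card_eq 2 3 4 1 Nat.prime_two Nat.prime_three (by rw [h48]; norm_num)
    exact ⟨fun _ => eq_top_of_card_eq _ (by rw [D.card_C, h48]), fun h => absurd hsol h⟩
  · push Not at h2
    obtain ⟨a, b, E⟩ := exists_eight D hKi htK hψ
    haveI := E.isSimpleGroup h2
    let σ : K ≃* K := MulAut.conjNormal D.t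
    have hfix : ∀ x, σ x = x ↔ x ∈ HK D K := fun x => by
      rw [mem_HK, ← Subtype.coe_inj]
      show (MulAut.conjNormal D.t x : K).1 = x.1 ↔ _
      rw [MulAut.conjNormal_apply, mul_inv_eq_iff_eq_mul]
      exact eq_comm
    have h360 : Nat.card K = 360 := (E.card_eq h2).resolve_left fun h =>
      no_aut_168 h σ (HK D K) (card_HK D hKi htK) hfix
    obtain ⟨f⟩ := InvChar.iso_alternatingSix h360
    haveI : Fact (Nat.Prime 3) := ⟨Nat.prime_three⟩
    obtain ⟨c, hc⟩ := exists_prime_orderOf_dvd_card' (G := HK D K) 3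
      (by rw [card_HK D hKi htK]; norm_num)
    have hsolK : ¬ Group.IsSolvable K := fun h => by
      haveI := h
      have hab : ∀ x y : K, x * y = y * x := IsSimpleGroup.comm_iff_isSolvable.2 h
      have := E.centralizer_a
      have hcard := E.card_centralizer_a
      rw [show centralizer ({a} : Set K) = ⊤ from top_le_iff.1 fun x _ =>
        mem_centralizer_singleton_iff.2 (hab x a), card_top, h360] at hcard
      omega
    have hcard : Nat.card G = 720 := by rw [← card_mul_index K, h360, hKi]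
    refine ⟨fun h => absurd (by haveI := h; infer_instance) hsolK, fun _ => ?_⟩
    refine iso_symSix hKi f htK (c := (c : K)) (by rw [Subgroup.orderOf_coe, hc]) ((mem_HK D).1 c.2)
      ?_ ?_
    · by_contra hall
      push Not at hall
      have h1 := D.card_C
      rw [show centralizer ({D.t} : Set G) = ⊤ from top_le_iff.1 fun g _ =>
        mem_centralizer_singleton_iff.2 (hall g), card_top, hcard] at h1
      omega
    · intro k hk hkt hkc
      have hkH : (⟨k, hk⟩ : K) ∈ HK D K := (mem_HK D).2 hkt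
      have := center_four (ψ ⟨_, hkH⟩) fun s => by
        rw [← ψ.apply_symm_apply s, ← map_mul, ← map_mul]
        congr 1
        exact Subtype.ext (Subtype.ext (hkc _ ((ψ.symm s : HK D K) : K).2 ((mem_HK D).1 (ψ.symm s).2)))
      have h1 : (⟨_, hkH⟩ : HK D K) = 1 := ψ.injective (this.trans (map_one ψ).symm)
      exact congrArg (fun y : HK D K => ((y : K) : G)) h1

end CfsgLib.S3222
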