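import Mathlib.GroupTheory.Perm.Sign
import Mathlib.GroupTheory.Perm.Fin
import Mathlib.Data.ZMod.Basic

/-!
Computations inside `Z₂ × S₄`.
-/

set_option autoImplicit false
set_option linter.unusedSectionVars false

namespace CfsgLib.S3222

/-- The model `Z₂ × S₄`. -/
abbrev W := Multiplicative (ZMod 2) × Equiv.Perm (Fin 4)

/-- The central involution. -/
def aW : W := (Multiplicative.ofAdd 1, 1)
/-- An involution of the four group. -/
def zW : W := (1, Equiv.swap 0 1 * Equiv.swap 2 3)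
/-- A transposition. -/
def rW : W := (1, Equiv.swap 0 1)

theorem center_W : ∀ p : W, (∀ q : W, p * q = q * p) → p = 1 ∨ p = aW := by decide +kernel

theorem card_Q : Fintype.card {p : W // p * zW = zW * p} = 16 := by decide +kernel

theorem card_W : Fintype.card W = 48 := by decide +kernel

theorem commutator_Q : ∀ p q : W, p * zW = zW * p → q * zW = zW * q →
    p * q * p⁻¹ * q⁻¹ = 1 ∨ p * q * p⁻¹ * q⁻¹ = zW := by decide +kernel

theorem exists_commutator_Q : ∃ p q : W, p * zW = zW * p ∧ q * zW = zW * q ∧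
    p * q * p⁻¹ * q⁻¹ = zW :=
  ⟨(1, Equiv.swap 0 1), (1, Equiv.swap 0 2 * Equiv.swap 1 3), by decide +kernel⟩

theorem invol_cases : ∀ p : W, p * p = 1 → p = 1 ∨ p = aW ∨
    ∃ q : W, q * p * q⁻¹ = zW ∨ q * p * q⁻¹ = aW * zW ∨ q * p * q⁻¹ = rW ∨
      q * p * q⁻¹ = aW * rW := by decide +kernel

theorem four_cases : ∀ p : W, p * rW = rW * p →
    p = 1 ∨ p = aW ∨ p = zW ∨ p = aW * zW ∨
      ∃ q : W, q * p * q⁻¹ = rW ∨ q * p * q⁻¹ = aW * rW := by decide +kernel

theorem facts : aW ≠ 1 ∧ zW ≠ 1 ∧ rW ≠ 1 ∧ aW * zW ≠ 1 ∧ aW * rW ≠ 1 ∧ rW ≠ aW ∧ aW * rW ≠ aW ∧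
    zW * rW = rW * zW ∧ zW * zW = 1 ∧ rW * rW = 1 ∧ aW * aW = 1 := by
  decide +kernel

theorem aW_comm : ∀ p : W, aW * p = p * aW := by decide +kernel

theorem comm_ar : ∀ p : W, p * (aW * rW) = aW * rW * p ↔ p * rW = rW * p := by decide +kernel

theorem snd_one : ∀ p : W, p.2 = 1 → p = 1 ∨ p = aW := by decide +kernel

/-- The projection onto `Z₂`. -/
def chiZero : W →* Multiplicative (ZMod 2) := MonoidHom.fst _ _

/-- The projection twisted by the sign. -/
def chiOne : W →* Multiplicative (ZMod 2) where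
  toFun p := p.1 * if Equiv.Perm.sign p.2 = 1 then 1 else Multiplicative.ofAdd 1
  map_one' := by simp
  map_mul' := by decide +kernel

theorem chi_values : chiZero aW ≠ 1 ∧ chiZero (aW * rW) ≠ 1 ∧ chiOne aW ≠ 1 ∧ chiOne rW ≠ 1 := by
  decide +kernel

theorem chi_kernel_card : Fintype.card {p : W // p * zW = zW * p ∧ chiZero p = 1} = 8 ∧
    Fintype.card {p : W // p * zW = zW * p ∧ chiOne p = 1} = 8 := by
  decide +kernel

theorem chi_conj (χ : W →* Multiplicative (ZMod 2)) (p q : W) : χ (q * p * q⁻¹) = χ p := by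
  simp [mul_comm (χ q)]

end CfsgLib.S3222
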