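import Cfsg.Agent.Recog3222.Model
import Cfsg.Agent.Invol.ThompsonTransfer
import Mathlib.GroupTheory.Sylow

/-!
Fusion of involutions and the subgroup of index two, for a group in which a 2-central involution has
centralizer `Z₂ × S₄` and Sylow 2-subgroups are the centralizers of their derived subgroups.
-/

set_option autoImplicit false
set_option linter.unusedSectionVars false
set_option linter.style.haveILetI false
set_option linter.deprecated false

namespace CfsgLib.S3222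

open Subgroup
open scoped commutatorElement

variable {G : Type*} [Group G] [Finite G]

/-- The hypotheses. -/
structure Data (G : Type*) [Group G] [Finite G] where
  /-- The involution. -/
  t : G
  ord : orderOf t = 2
  /-- A Sylow subgroup centralizing `t`. -/
  T : Sylow 2 G
  memT : t ∈ (T : Subgroup G)
  commT : ∀ s ∈ (T : Subgroup G), s * t = t * s
  /-- The centralizer. -/
  e : ↥(centralizer ({t} : Set G)) ≃* W
  selfC : ∀ S : Sylow 2 G, centralizer ((⁅(S : Subgroup G), (S : Subgroup G)⁆ : Subgroup G) : Set G) =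
    (S : Subgroup G)

namespace Data

variable (D : Data G)

/-- The model, as elements of `G`. -/
def lift : W →* G := (centralizer ({D.t} : Set G)).subtype.comp D.e.symm.toMonoidHom

theorem lift_injective : Function.Injective D.lift := fun _ _ h =>
  D.e.symm.injective (Subtype.ext h)

theorem lift_mem (p : W) : D.lift p ∈ centralizer ({D.t} : Set G) := (D.e.symm p).2

theorem exists_lift {x : G} (hx : x * D.t = D.t * x) : ∃ p, D.lift p = x :=
  ⟨D.e ⟨x, mem_centralizer_singleton_iff.2 hx⟩, by simp [lift]⟩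

theorem lift_comm (p : W) : D.lift p * D.t = D.t * D.lift p :=
  mem_centralizer_singleton_iff.1 (D.lift_mem p)

theorem lift_eq_iff {p q : W} : D.lift p = D.lift q ↔ p = q := D.lift_injective.eq_iff

theorem lift_a : D.lift aW = D.t := by
  obtain ⟨p, hp⟩ := D.exists_lift (x := D.t) rfl
  have hc : ∀ q : W, p * q = q * p := fun q => D.lift_injective (by
    rw [map_mul, map_mul, hp, D.lift_comm])
  rcases center_W p hc with rfl | rfl
  · exfalso
    have h := D.ord
    rw [← hp, map_one, orderOf_one] at h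
    omega
  · exact hp

theorem t_sq : D.t * D.t = 1 := by
  rw [← D.lift_a, ← map_mul, facts.2.2.2.2.2.2.2.2.2.2, map_one]

/-- The element `z`. -/
def z : G := D.lift zW

/-- The element `τ`. -/
def r : G := D.lift rW

/-- The Sylow subgroup `C(t) ∩ C(z)`. -/
def Q : Subgroup G := centralizer ({D.t} : Set G) ⊓ centralizer ({D.z} : Set G)

theorem mem_Q {x : G} : x ∈ D.Q ↔ ∃ p : W, p * zW = zW * p ∧ D.lift p = x := by
  rw [Q, mem_inf, mem_centralizer_singleton_iff, mem_centralizer_singleton_iff]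
  constructor
  · rintro ⟨h1, h2⟩
    obtain ⟨p, rfl⟩ := D.exists_lift h1
    exact ⟨p, D.lift_injective (by rw [map_mul, map_mul]; exact h2), rfl⟩
  · rintro ⟨p, hp, rfl⟩
    exact ⟨D.lift_comm p, by rw [z, ← map_mul, ← map_mul, hp]⟩

theorem lift_mem_Q {p : W} (hp : p * zW = zW * p) : D.lift p ∈ D.Q := D.mem_Q.2 ⟨p, hp, rfl⟩

theorem card_subset (s : Set G) (P : W → Prop) (h : ∀ x, x ∈ s ↔ ∃ p, P p ∧ D.lift p = x) :
    Nat.card s = Nat.card {p : W // P p} := by
  refine (Nat.card_eq_of_bijective (fun p : {p : W // P p} =>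
    (⟨D.lift p.1, (h _).2 ⟨p.1, p.2, rfl⟩⟩ : s)) ⟨fun p q hpq => ?_, fun x => ?_⟩).symm
  · exact Subtype.ext (D.lift_injective (Subtype.ext_iff.1 hpq :))
  · obtain ⟨p, hp, hpx⟩ := (h _).1 x.2
    exact ⟨⟨p, hp⟩, Subtype.ext hpx⟩

theorem card_Q_eq : Nat.card D.Q = 16 := by
  rw [← card_Q, ← Nat.card_eq_fintype_card]
  exact D.card_subset (D.Q : Set G) (fun p => p * zW = zW * p) fun _ => D.mem_Q

theorem card_C : Nat.card (centralizer ({D.t} : Set G)) = 48 := by
  rw [Nat.card_congr D.e.toEquiv, Nat.card_eq_fintype_card, card_W]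

/-- `C(t) ∩ C(z)` is a Sylow subgroup. -/
theorem exists_sylow : ∃ S : Sylow 2 G, (S : Subgroup G) = D.Q := by
  haveI : Fact (Nat.Prime 2) := ⟨Nat.prime_two⟩
  obtain ⟨S, hS⟩ := (IsPGroup.of_card (n := 4) (D.card_Q_eq.trans (by norm_num)) :
    IsPGroup 2 D.Q).exists_le_sylow
  refine ⟨S, (eq_of_le_of_card_ge hS ?_).symm⟩
  rw [D.card_Q_eq, S.card_eq_multiplicity, ← D.T.card_eq_multiplicity]
  have hd : Nat.card (D.T : Subgroup G) ∣ 48 := D.card_C ▸
    card_dvd_of_le fun x hx => mem_centralizer_singleton_iff.2 (D.commT x hx)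
  obtain ⟨k, hk⟩ := IsPGroup.iff_card.1 D.T.2
  rw [hk] at hd ⊢
  by_contra h
  have h5 : 2 ^ 5 ∣ 2 ^ k := Nat.pow_dvd_pow 2 (by
    by_contra h'
    exact h (le_trans (Nat.pow_le_pow_right two_pos (by omega : k ≤ 4)) le_rfl))
  exact absurd (h5.trans hd) (by norm_num)

theorem commutator_Q_le : ⁅D.Q, D.Q⁆ ≤ zpowers D.z := by
  refine commutator_le.2 fun x hx y hy => ?_
  obtain ⟨p, hp, rfl⟩ := D.mem_Q.1 hx
  obtain ⟨q, hq, rfl⟩ := D.mem_Q.1 hy
  rcases commutator_Q p q hp hq with h | h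
  · rw [commutatorElement_def, ← map_inv, ← map_inv, ← map_mul, ← map_mul, ← map_mul, h, map_one]
    exact one_mem _
  · rw [commutatorElement_def, ← map_inv, ← map_inv, ← map_mul, ← map_mul, ← map_mul, h]
    exact mem_zpowers _

theorem z_mem_commutator : D.z ∈ ⁅D.Q, D.Q⁆ := by
  obtain ⟨p, q, hp, hq, h⟩ := exists_commutator_Q
  rw [z, ← h, map_mul, map_mul, map_mul, map_inv, map_inv]
  exact commutator_mem_commutator (D.lift_mem_Q hp) (D.lift_mem_Q hq)

theorem centralizer_z_le : centralizer ({D.z} : Set G) ≤ D.Q := by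
  obtain ⟨S, hS⟩ := D.exists_sylow
  have h := D.selfC S
  rw [hS] at h
  intro x hx
  rw [← h, mem_centralizer_iff]
  intro y hy
  obtain ⟨i, rfl⟩ := mem_zpowers_iff.1 (D.commutator_Q_le hy)
  exact ((show Commute x D.z from mem_centralizer_singleton_iff.1 hx).zpow_right i).eq.symm

theorem mem_Q_of_z {x : G} (hx : x * D.z = D.z * x) : x ∈ D.Q :=
  D.centralizer_z_le (mem_centralizer_singleton_iff.2 hx)

theorem not_conj_t_z (g : G) : g * D.t * g⁻¹ ≠ D.z := by
  intro h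
  have hle : (centralizer ({D.t} : Set G)).map (MulAut.conj g).toMonoidHom ≤ D.Q := by
    rintro _ ⟨x, hx, rfl⟩
    refine D.mem_Q_of_z ?_
    show g * x * g⁻¹ * D.z = D.z * (g * x * g⁻¹)
    rw [← h, conj_mul, conj_mul, mem_centralizer_singleton_iff.1 hx]
  have := card_dvd_of_le hle
  rw [card_map_of_injective (MulAut.conj g).injective, D.card_C, D.card_Q_eq] at this
  norm_num at this

/-- An element of `N(Q)` centralizes `z`. -/
theorem normalizer_Q_z {n : G} (hn : n ∈ normalizer (D.Q : Set G)) : n * D.z * n⁻¹ = D.z := by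
  have hmap : (D.Q).map (MulAut.conj n).toMonoidHom = D.Q :=
    (mem_normalizer_iff_map_conj_eq (H := D.Q)).1 hn
  have hz : n * D.z * n⁻¹ ∈ ⁅D.Q, D.Q⁆ := by
    have := mem_map_of_mem (MulAut.conj n).toMonoidHom D.z_mem_commutator
    rwa [map_commutator, hmap] at this
  obtain ⟨i, hi⟩ := mem_zpowers_iff.1 (D.commutator_Q_le hz)
  have hsq : D.z * D.z = 1 := by rw [z, ← map_mul, facts.2.2.2.2.2.2.2.2.1, map_one]
  rcases Int.even_or_odd i with ⟨j, rfl⟩ | ⟨j, rfl⟩
  · exfalso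
    rw [← two_mul, zpow_mul, zpow_two, hsq, one_zpow] at hi
    exact facts.2.1 (D.lift_injective (by rw [map_one]; exact conj_eq_one_iff.1 hi.symm))
  · rw [zpow_add_one, zpow_mul, zpow_two, hsq, one_zpow, one_mul] at hi
    exact hi.symm

theorem burnside {p q : W} (hp : ∀ w : W, w * zW = zW * w → p * w = w * p)
    (hq : ∀ w : W, w * zW = zW * w → q * w = w * q) {g : G} (hg : g * D.lift p * g⁻¹ = D.lift q) :
    ∃ n ∈ D.Q, n * D.lift p * n⁻¹ = D.lift q := by
  haveI : Fact (Nat.Prime 2) := ⟨Nat.prime_two⟩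
  obtain ⟨S, hS⟩ := D.exists_sylow
  have hc : ∀ {p : W}, (∀ w : W, w * zW = zW * w → p * w = w * p) →
      D.lift p ∈ centralizer ((S : Subgroup G) : Set G) := fun {p} hp => by
    rw [mem_centralizer_iff]
    intro y hy
    rw [hS] at hy
    obtain ⟨w, hw, rfl⟩ := D.mem_Q.1 hy
    rw [← map_mul, ← map_mul, hp w hw]
  have hq' : (g⁻¹)⁻¹ * D.lift p * g⁻¹ ∈ centralizer ((S : Subgroup G) : Set G) := by
    rw [inv_inv, hg]; exact hc hq
  obtain ⟨n, hn, he⟩ := S.conj_eq_normalizer_conj_of_mem_centralizer (D.lift p) g⁻¹ (hc hp) hq'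
  rw [inv_inv, hg] at he
  have hn' : n⁻¹ ∈ normalizer (D.Q : Set G) := by rw [← hS]; exact inv_mem hn
  refine ⟨n⁻¹, D.mem_Q_of_z (mul_inv_eq_iff_eq_mul.1 (D.normalizer_Q_z hn')), ?_⟩
  rw [inv_inv]; exact he.symm

theorem central_Q : ∀ w : W, w * zW = zW * w → (aW * zW) * w = w * (aW * zW) := fun w hw => by
  rw [mul_assoc, ← hw, ← mul_assoc, aW_comm, mul_assoc]

theorem not_conj_t_tz (g : G) : g * D.t * g⁻¹ ≠ D.lift (aW * zW) := by
  intro h
  rw [← D.lift_a] at h
  obtain ⟨n, hn, he⟩ := D.burnside (fun w _ => aW_comm w) central_Q h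
  obtain ⟨w, -, rfl⟩ := D.mem_Q.1 hn
  rw [← map_inv, ← map_mul, ← map_mul, D.lift_eq_iff, ← aW_comm, mul_inv_cancel_right] at he
  exact facts.2.1 (mul_eq_left.1 he.symm)

theorem not_conj_z_tz (g : G) : g * D.z * g⁻¹ ≠ D.lift (aW * zW) := by
  intro h
  obtain ⟨n, hn, he⟩ := D.burnside (fun w hw => hw.symm) central_Q h
  obtain ⟨w, hw, rfl⟩ := D.mem_Q.1 hn
  rw [← map_inv, ← map_mul, ← map_mul, D.lift_eq_iff, hw, mul_inv_cancel_right] at he
  exact facts.1 (mul_eq_right.1 he.symm)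

theorem conj_lift (p q : W) : D.lift (q * p * q⁻¹) = D.lift q * D.lift p * (D.lift q)⁻¹ := by
  simp

/-- The involutions of `C(t)` conjugate to `t`. -/
theorem conj_t_cases {p : W} {g : G} (hg : g * D.t * g⁻¹ = D.lift p) :
    p = aW ∨ ∃ q : W, q * p * q⁻¹ = rW ∨ q * p * q⁻¹ = aW * rW := by
  have hp2 : p * p = 1 := D.lift_injective (by
    rw [map_mul, ← hg, conj_mul, D.t_sq, map_one]; group)
  rcases invol_cases p hp2 with rfl | rfl | ⟨q, hq⟩
  · exfalso
    rw [map_one, conj_eq_one_iff] at hg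
    have h := D.ord
    rw [hg, orderOf_one] at h
    omega
  · exact Or.inl rfl
  · have hq' : D.lift q * g * D.t * (D.lift q * g)⁻¹ = D.lift (q * p * q⁻¹) := by
      rw [D.conj_lift, ← hg]; group
    rcases hq with h | h | h | h
    · exact absurd (h ▸ hq') (D.not_conj_t_z _)
    · exact absurd (h ▸ hq') (D.not_conj_t_tz _)
    · exact Or.inr ⟨q, Or.inl h⟩
    · exact Or.inr ⟨q, Or.inr h⟩

/-- `t` is not conjugate to both `τ` and `tτ`. -/
theorem not_both {g₁ g₂ : G} (h1 : g₁ * D.t * g₁⁻¹ = D.r)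
    (h2 : g₂ * D.t * g₂⁻¹ = D.lift (aW * rW)) : False := by
  have hrt : D.r * D.t = D.t * D.r := D.lift_comm rW
  set y := g₁⁻¹ * D.t * g₁ with hy
  have hyt : y * D.t = D.t * y := by
    have := congrArg (fun w => g₁⁻¹ * w * g₁) hrt
    rw [← h1] at this
    simp only [hy]
    calc g₁⁻¹ * D.t * g₁ * D.t = g₁⁻¹ * (D.t * (g₁ * D.t * g₁⁻¹)) * g₁ := by group
      _ = g₁⁻¹ * (g₁ * D.t * g₁⁻¹ * D.t) * g₁ := this.symm
      _ = D.t * (g₁⁻¹ * D.t * g₁) := by group
  obtain ⟨p, hp⟩ := D.exists_lift hyt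
  rcases D.conj_t_cases (p := p) (g := g₁⁻¹) (by rw [hp, inv_inv]) with rfl | ⟨q, hq⟩
  · rw [D.lift_a, hy] at hp
    have : g₁ * D.t * g₁⁻¹ = D.t := by
      calc g₁ * D.t * g₁⁻¹ = g₁ * (g₁⁻¹ * D.t * g₁) * g₁⁻¹ := by rw [← hp]
        _ = D.t := by group
    rw [h1, r, ← D.lift_a, D.lift_eq_iff] at this
    exact facts.2.2.2.2.2.1 this
  · -- `g₁ * q⁻¹` normalizes `C(t) ∩ C(τ)` and moves `t` to `τ`
    set h := g₁ * (D.lift q)⁻¹ with hh
    have hht : h * D.t * h⁻¹ = D.r := by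
      rw [hh, ← h1]
      calc g₁ * (D.lift q)⁻¹ * D.t * (g₁ * (D.lift q)⁻¹)⁻¹
          = g₁ * (D.lift q)⁻¹ * (D.t * D.lift q) * g₁⁻¹ := by group
        _ = _ := by rw [← D.lift_comm]; group
    have hzr : D.z * D.r = D.r * D.z := by
      rw [z, r, ← map_mul, ← map_mul, facts.2.2.2.2.2.2.2.1]
    set qp := q * p * q⁻¹ with hqp
    have hqy : h⁻¹ * D.t * h = D.lift qp := by
      rw [hqp, D.conj_lift, hp, hy, hh]; group
    have hzc : (h * D.z * h⁻¹) * D.t = D.t * (h * D.z * h⁻¹) := by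
      have hc : D.z * D.lift qp = D.lift qp * D.z := by
        rcases hq with e | e
        · rw [e]; exact hzr
        · rw [e, z, ← map_mul, ← map_mul, ← mul_assoc, ← aW_comm, mul_assoc, facts.2.2.2.2.2.2.2.1,
            ← mul_assoc]
      rw [← hqy] at hc
      calc h * D.z * h⁻¹ * D.t = h * (D.z * (h⁻¹ * D.t * h)) * h⁻¹ := by group
        _ = h * (h⁻¹ * D.t * h * D.z) * h⁻¹ := by rw [hc]
        _ = _ := by group
    have hzr' : (h * D.z * h⁻¹) * D.r = D.r * (h * D.z * h⁻¹) := by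
      rw [← hht, conj_mul, conj_mul]
      congr 2
      exact D.lift_comm zW
    obtain ⟨w, hw⟩ := D.exists_lift hzc
    have hwr : w * rW = rW * w := D.lift_injective (by
      rw [map_mul, map_mul, hw]; exact hzr')
    rcases four_cases w hwr with rfl | rfl | rfl | rfl | ⟨q', hq'⟩
    · rw [map_one] at hw
      exact facts.2.1 (D.lift_injective (by rw [map_one]; exact conj_eq_one_iff.1 hw.symm))
    · rw [D.lift_a] at hw
      exact D.not_conj_t_z h⁻¹ (by rw [hw]; group)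
    · have hQ : h ∈ D.Q := D.mem_Q_of_z (mul_inv_eq_iff_eq_mul.1 hw.symm)
      have hc := mem_centralizer_singleton_iff.1 (mem_inf.1 hQ).1
      rw [mul_inv_eq_iff_eq_mul.2 hc, r, ← D.lift_a, D.lift_eq_iff] at hht
      exact facts.2.2.2.2.2.1 hht.symm
    · exact D.not_conj_z_tz h hw.symm
    · rcases hq' with e | e
      · refine D.not_conj_t_z (h⁻¹ * (D.lift q')⁻¹ * g₁) ?_
        have e' := D.conj_lift w q'
        rw [e, hw, ← r, ← h1] at e'
        calc h⁻¹ * (D.lift q')⁻¹ * g₁ * D.t * (h⁻¹ * (D.lift q')⁻¹ * g₁)⁻¹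
            = h⁻¹ * (D.lift q')⁻¹ * (g₁ * D.t * g₁⁻¹) * D.lift q' * h := by group
          _ = D.z := by rw [e']; group
      · refine D.not_conj_t_z (h⁻¹ * (D.lift q')⁻¹ * g₂) ?_
        have e' := D.conj_lift w q'
        rw [e, hw, ← h2] at e'
        calc h⁻¹ * (D.lift q')⁻¹ * g₂ * D.t * (h⁻¹ * (D.lift q')⁻¹ * g₂)⁻¹
            = h⁻¹ * (D.lift q')⁻¹ * (g₂ * D.t * g₂⁻¹) * D.lift q' * h := by group
          _ = D.z := by rw [e']; group

/-- There is a subgroup of index two avoiding `t`. -/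
theorem exists_index_two : ∃ K : Subgroup G, K.Normal ∧ K.index = 2 ∧ D.t ∉ K := by
  haveI : Fact (Nat.Prime 2) := ⟨Nat.prime_two⟩
  obtain ⟨χ, hχa, hχ, hcard⟩ : ∃ χ : W →* Multiplicative (ZMod 2), χ aW ≠ 1 ∧
      (∀ p : W, (∃ g, g * D.t * g⁻¹ = D.lift p) → χ p ≠ 1) ∧
      Fintype.card {p : W // p * zW = zW * p ∧ χ p = 1} = 8 := by
    have main : ∀ χ : W →* Multiplicative (ZMod 2), χ aW ≠ 1 →
        ((∃ g, g * D.t * g⁻¹ = D.r) → χ rW ≠ 1) →
        ((∃ g, g * D.t * g⁻¹ = D.lift (aW * rW)) → χ (aW * rW) ≠ 1) →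
        ∀ p : W, (∃ g, g * D.t * g⁻¹ = D.lift p) → χ p ≠ 1 := by
      rintro χ ha h1 h2 p ⟨g, hg⟩
      rcases D.conj_t_cases hg with rfl | ⟨q, hq⟩
      · exact ha
      · have hg' : (D.lift q * g) * D.t * (D.lift q * g)⁻¹ = D.lift (q * p * q⁻¹) := by
          rw [D.conj_lift, ← hg]; group
        rw [← chi_conj χ p q]
        rcases hq with e | e <;> rw [e] at hg' ⊢
        · exact h1 ⟨_, hg'⟩
        · exact h2 ⟨_, hg'⟩
    by_cases hr : ∃ g, g * D.t * g⁻¹ = D.r
    · refine ⟨chiOne, chi_values.2.2.1, main _ chi_values.2.2.1 (fun _ => chi_values.2.2.2)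
        (fun ⟨g₂, h2⟩ => ?_), chi_kernel_card.2⟩
      obtain ⟨g₁, h1⟩ := hr
      exact (D.not_both h1 h2).elim
    · exact ⟨chiZero, chi_values.1, main _ chi_values.1 (fun h => absurd h hr)
        (fun _ => chi_values.2.1), chi_kernel_card.1⟩
  set R : Subgroup G := (χ.ker).map D.lift ⊓ D.Q with hR
  have hmemR : ∀ x, x ∈ R ↔ ∃ p, (p * zW = zW * p ∧ χ p = 1) ∧ D.lift p = x := by
    intro x
    rw [hR, mem_inf, D.mem_Q, mem_map]
    constructor
    · rintro ⟨⟨p, hp, rfl⟩, q, hq, hpq⟩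
      obtain rfl := D.lift_injective hpq
      exact ⟨q, ⟨hq, hp⟩, rfl⟩
    · rintro ⟨p, ⟨hp, hp'⟩, rfl⟩
      exact ⟨⟨p, hp', rfl⟩, p, hp, rfl⟩
  have hcR : Nat.card R = 8 := by
    rw [← hcard, ← Nat.card_eq_fintype_card]
    exact D.card_subset (R : Set G) _ hmemR
  have hrel : R.relIndex D.Q = 2 := by
    have h := card_mul_index (R.subgroupOf D.Q)
    rw [Nat.card_congr (subgroupOfEquivOfLe (inf_le_right : R ≤ D.Q)).toEquiv, hcR, D.card_Q_eq] at h
    show (R.subgroupOf D.Q).index = 2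
    omega
  have hodd : Odd D.Q.index := by
    obtain ⟨S, hS⟩ := D.exists_sylow
    rw [← hS]
    exact Nat.not_even_iff_odd.1 fun he => S.not_dvd_index he.two_dvd
  rcases ThompsonTransfer.thompson_transfer D.Q R hodd hrel D.t_sq with h | ⟨g, hg⟩
  · exact h
  · obtain ⟨p, ⟨-, hp⟩, hpx⟩ := (hmemR _).1 hg
    exact absurd hp (hχ p ⟨g, hpx.symm⟩)

end Data

end CfsgLib.S3222
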